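import Cfsg.Prelude.Def_OddOrderLocal
import Cfsg.Agent.S4207
import Cfsg.Agent.S4189
import Cfsg.Agent.FusionEssential.AbelianRankTwo
import Cfsg.Agent.FusionEssential.PPowHom
import Cfsg.Agent.Solvable.Frattini

/-!
# Metacyclic `2`-groups with an automorphism of odd order
-/

set_option autoImplicit false
set_option linter.style.haveILetI false

namespace CfsgLib.FusionMetacyclic

open scoped commutatorElement

variable {Q : Type*} [Group Q]

theorem apply_mem_frattini (α : MulAut Q) {x : Q} (hx : x ∈ frattini Q) : α x ∈ frattini Q := by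
  have h := Subgroup.Characteristic.fixed (H := frattini Q) inferInstance α
  rw [← h] at hx
  exact hx

/-- The automorphisms acting trivially on the Frattini quotient. -/
def frattiniStab (Q : Type*) [Group Q] [(frattini Q).Normal] : Subgroup (MulAut Q) where
  carrier := {α | ∀ x : Q, α x * x⁻¹ ∈ frattini Q}
  one_mem' := fun x => by simp
  mul_mem' := fun {α β} hα hβ x => by
    have h := mul_mem (hα (β x)) (hβ x)
    simpa [mul_assoc] using h
  inv_mem' := fun {α} hα x => by
    have h := inv_mem (hα (α⁻¹ x))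
    simpa using h

theorem eq_one_of_trivial_frattini [Finite Q] (hQ : IsPGroup 2 Q) {α : MulAut Q}
    (hodd : Odd (orderOf α)) (h : ∀ x : Q, α x * x⁻¹ ∈ frattini Q) : α = 1 := by
  obtain ⟨n, hn⟩ := IsPGroup.iff_card.1 hQ
  obtain ⟨r, hr⟩ := hQ.index (frattini Q)
  haveI : (frattini Q).Normal := inferInstance
  have hcard := Cfsg.Agent.S4207.result hn hr (frattiniStab Q) (fun β hβ x => hβ x)
  have hd : orderOf α ∣ 2 ^ (r * (n - r)) := by
    have h0 : orderOf (⟨α, h⟩ : frattiniStab Q) = orderOf α := (Subgroup.orderOf_coe _).symm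
    exact (h0 ▸ orderOf_dvd_natCard (⟨α, h⟩ : frattiniStab Q)).trans hcard
  have h1 : orderOf α ∣ 1 := by
    have := Nat.dvd_gcd dvd_rfl hd
    rwa [((Nat.coprime_two_right.2 hodd).pow_right _).gcd_eq_one] at this
  exact orderOf_eq_one_iff.1 (Nat.dvd_one.1 h1)

theorem eq_one_of_sq_trivial_frattini [Finite Q] (hQ : IsPGroup 2 Q) {α : MulAut Q}
    (hodd : Odd (orderOf α)) (h : ∀ x : Q, (α ^ 2) x * x⁻¹ ∈ frattini Q) : α = 1 := by
  obtain ⟨k, hk⟩ := hodd
  have h1 : α ^ 2 = 1 := eq_one_of_trivial_frattini hQ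
    (by
      rw [(Nat.Coprime.orderOf_pow (by rw [Nat.coprime_two_right]; exact ⟨k, hk⟩))]
      exact ⟨k, hk⟩) h
  have h2 := pow_orderOf_eq_one α
  rwa [hk, pow_succ, pow_mul, h1, one_pow, one_mul] at h2

/-- A group with a cyclic normal subgroup `N` and a cyclic quotient. -/
theorem exists_gens (hm : Cfsg.IsMetacyclic Q) :
    ∃ a b : Q, (Subgroup.zpowers a).Normal ∧ commutator Q ≤ Subgroup.zpowers a ∧
      ∀ x, ∃ i j : ℤ, x = b ^ i * a ^ j := by
  obtain ⟨N, hN, hNc, hQc⟩ := hm
  obtain ⟨a, rfl⟩ := (Subgroup.isCyclic_iff_exists_zpowers_eq_top N).1 hNc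
  obtain ⟨bq, hbq⟩ := hQc.exists_generator
  obtain ⟨b, rfl⟩ := QuotientGroup.mk_surjective bq
  refine ⟨a, b, hN, ?_, fun x => ?_⟩
  · rw [commutator_def, Subgroup.commutator_le]
    intro x _ y _
    rw [← QuotientGroup.eq_one_iff (N := Subgroup.zpowers a)]
    show (QuotientGroup.mk' (Subgroup.zpowers a)) ⁅x, y⁆ = 1
    rw [map_commutatorElement, commutatorElement_eq_one_iff_mul_comm]
    exact hQc.isMulCommutative.is_comm.comm _ _
  · obtain ⟨i, hi⟩ := Subgroup.mem_zpowers_iff.1 (hbq x)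
    rw [← QuotientGroup.mk_zpow, QuotientGroup.eq] at hi
    obtain ⟨j, hj⟩ := hi
    change a ^ j = (b ^ i)⁻¹ * x at hj
    exact ⟨i, j, by rw [hj, mul_inv_cancel_left]⟩

theorem index_frattini_le [Finite Q] (hQ : IsPGroup 2 Q) (hm : Cfsg.IsMetacyclic Q) :
    (frattini Q).index ≤ 4 := by
  obtain ⟨a, b, -, -, hgen⟩ := exists_gens hm
  rw [Subgroup.index_eq_card]
  let π := QuotientGroup.mk' (frattini Q)
  have hpar : ∀ (c : Q) (i : ℤ), ∃ e : Fin 2, π c ^ i = π c ^ (e : ℕ) := by
    intro c i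
    have h2 : π c ^ (2 : ℤ) = 1 := by
      rw [← map_zpow]
      exact (QuotientGroup.eq_one_iff _).2 (by
        rw [zpow_ofNat]; exact CfsgLib.Solvable.pow_mem_frattini hQ c)
    rcases Int.emod_two_eq_zero_or_one i with h | h
    · exact ⟨0, by rw [← Int.mul_ediv_add_emod i 2, h, add_zero, zpow_mul, h2, one_zpow]; simp⟩
    · exact ⟨1, by
        rw [← Int.mul_ediv_add_emod i 2, h, zpow_add, zpow_mul, h2, one_zpow]; simp⟩
  refine (Nat.card_le_card_of_surjective
    (fun e : Fin 2 × Fin 2 => π b ^ (e.1 : ℕ) * π a ^ (e.2 : ℕ)) ?_).trans (by simp)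
  intro x
  obtain ⟨y, rfl⟩ := QuotientGroup.mk_surjective x
  obtain ⟨i, j, rfl⟩ := hgen y
  obtain ⟨e, he⟩ := hpar b i
  obtain ⟨e', he'⟩ := hpar a j
  refine ⟨(e, e'), ?_⟩
  show π b ^ (e : ℕ) * π a ^ (e' : ℕ) = π (b ^ i * a ^ j)
  rw [map_mul, map_zpow, map_zpow, he, he']

/-- An automorphism of odd order of a `2`-group with Frattini quotient of order at most `4` has no
invariant subgroup strictly between the Frattini subgroup and the group. -/
theorem eq_frattini_or_top [Finite Q] (hQ : IsPGroup 2 Q) (hidx : (frattini Q).index ≤ 4)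
    {α : MulAut Q} (hodd : Odd (orderOf α)) (hne : α ≠ 1) {L : Subgroup Q}
    (hL : frattini Q ≤ L) (hinv : ∀ x ∈ L, α x ∈ L) : L = frattini Q ∨ L = ⊤ := by
  by_contra hc
  push Not at hc
  have hmul := Subgroup.relIndex_mul_index hL
  have h1 : L.index ≠ 1 := fun h => hc.2 (Subgroup.index_eq_one.1 h)
  have h2 : (frattini Q).relIndex L ≠ 1 := fun h =>
    hc.1 (le_antisymm (Subgroup.relIndex_eq_one.1 h) hL)
  have h3 : L.index ≠ 0 := Subgroup.index_ne_zero_of_finite
  have h4 : (frattini Q).relIndex L ≠ 0 := fun h => by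
    rw [h, zero_mul] at hmul
    exact Subgroup.index_ne_zero_of_finite hmul.symm
  have hA : 2 ≤ L.index := by omega
  have hB : 2 ≤ (frattini Q).relIndex L := by omega
  have hLidx : L.index = 2 := by nlinarith
  have hrel : (frattini Q).relIndex L = 2 := by nlinarith
  -- `α` is trivial on `L / Φ` and on `Q / L`
  have hmove : ∀ x : Q, α x * x⁻¹ ∈ L := by
    intro x
    rw [Subgroup.mul_mem_iff_of_index_two hLidx, inv_mem_iff]
    have hLsurj : ∀ y : Q, α y ∈ L → y ∈ L := by
      let f : L → L := fun z => ⟨α z, hinv z z.2⟩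
      have hf : Function.Injective f := fun u v h =>
        Subtype.ext (α.injective (congrArg Subtype.val h))
      intro y hy
      obtain ⟨z, hz⟩ := Finite.surjective_of_injective hf ⟨α y, hy⟩
      have : (z : Q) = y := α.injective (congrArg Subtype.val hz)
      exact this ▸ z.2
    exact ⟨hLsurj x, hinv x⟩
  have hfix : ∀ x ∈ L, α x * x⁻¹ ∈ frattini Q := by
    intro x hx
    by_cases hxΦ : x ∈ frattini Q
    · exact mul_mem (apply_mem_frattini α hxΦ) (inv_mem hxΦ)
    · have hαx : α x ∉ frattini Q := fun h => hxΦ (by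
        simpa using apply_mem_frattini α⁻¹ h)
      have h := (Subgroup.mul_mem_iff_of_index_two (H := (frattini Q).subgroupOf L) hrel
        (a := ⟨α x, hinv x hx⟩) (b := ⟨x, hx⟩⁻¹))
      simp only [inv_mem_iff, Subgroup.mem_subgroupOf] at h
      exact h.2 (by simp [hxΦ, hαx])
  refine hne (eq_one_of_sq_trivial_frattini hQ hodd fun x => ?_)
  -- `α² x ≡ x`
  set l := α x * x⁻¹ with hl
  have h5 := hfix l (hmove x)
  have h6 : l * l ∈ frattini Q := by
    rw [← sq]; exact CfsgLib.Solvable.pow_mem_frattini hQ l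
  have e : (α ^ 2) x * x⁻¹ = (α l * l⁻¹) * (l * l) := by
    rw [sq, MulAut.mul_apply]
    have e1 : α x = l * x := by rw [hl, inv_mul_cancel_right]
    rw [e1, map_mul, e1]
    group
  rw [e]
  exact mul_mem h5 h6

/-- In an abelian `2`-group with such an automorphism all elements outside the Frattini subgroup
have the same order. -/
theorem exists_uniform_exponent [Finite Q] (hQ : IsPGroup 2 Q) (hidx : (frattini Q).index ≤ 4)
    {α : MulAut Q} (hodd : Odd (orderOf α)) (hne : α ≠ 1) (hc : ∀ a b : Q, a * b = b * a) :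
    ∃ n : ℕ, (∀ x : Q, x ^ (2 ^ (n + 1)) = 1) ∧ ∀ x : Q, x ∉ frattini Q → x ^ (2 ^ n) ≠ 1 := by
  classical
  obtain ⟨N, hN⟩ := IsPGroup.iff_card.1 hQ
  have hex : ∃ e, ∀ x : Q, x ^ (2 ^ e) = 1 := ⟨N, fun x => by rw [← hN]; exact pow_card_eq_one'⟩
  have he := Nat.find_spec hex
  rcases hf : Nat.find hex with _ | n
  · rw [hf] at he
    refine absurd (MulEquiv.ext fun x => ?_) hne
    have h := he x
    rw [pow_zero, pow_one] at h
    rw [h, map_one]
    rfl
  rw [hf] at he
  refine ⟨n, he, fun x hx hxn => ?_⟩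
  let K : Subgroup Q :=
    { carrier := {y | y ^ (2 ^ n) = 1}
      one_mem' := one_pow _
      mul_mem' := fun {a b} ha hb => by
        show (a * b) ^ (2 ^ n) = 1
        rw [(show Commute a b from hc a b).mul_pow, show a ^ (2 ^ n) = 1 from ha,
          show b ^ (2 ^ n) = 1 from hb, one_mul]
      inv_mem' := fun {a} ha => by
        show (a⁻¹) ^ (2 ^ n) = 1
        rw [inv_pow, show a ^ (2 ^ n) = 1 from ha, inv_one] }
  haveI : K.Normal := ⟨fun y hy g => by rw [hc g y, mul_inv_cancel_right]; exact hy⟩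
  have hle : frattini Q ≤ K := by
    refine CfsgLib.Solvable.frattini_le_of_elementary (p := 2) ?_ fun y => ?_
    · rw [commutator_def, Subgroup.commutator_le]
      intro a _ b _
      rw [commutatorElement_eq_one_iff_mul_comm.2 (hc a b)]
      exact one_mem _
    · show (y ^ 2) ^ (2 ^ n) = 1
      rw [← pow_mul, ← pow_succ']
      exact he y
  rcases eq_frattini_or_top hQ hidx hodd hne hle (fun y hy => by
      show (α y) ^ (2 ^ n) = 1
      rw [← map_pow, show y ^ (2 ^ n) = 1 from hy, map_one]) with h | h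
  · exact hx (h ▸ (show x ∈ K from hxn))
  · have : Nat.find hex ≤ n := Nat.find_min' hex fun y => (h ▸ Subgroup.mem_top y : y ∈ K)
    omega

/-- An abelian metacyclic `2`-group with an automorphism of odd order is homocyclic. -/
theorem homocyclic_of_comm [Finite Q] (hQ : IsPGroup 2 Q) (hm : Cfsg.IsMetacyclic Q)
    {α : MulAut Q} (hodd : Odd (orderOf α)) (hne : α ≠ 1) (hc : ∀ a b : Q, a * b = b * a) :
    ∃ n : ℕ, Nonempty (Q ≃* Multiplicative (Fin 2 → ZMod (2 ^ n))) := by
  have hidx := index_frattini_le hQ hm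
  obtain ⟨n, hexp, hord⟩ := exists_uniform_exponent hQ hidx hodd hne hc
  obtain ⟨a, b, -, -, hgen⟩ := exists_gens hm
  -- `Φ` has index `4`
  have hΦ : (frattini Q).index = 2 ^ 2 := by
    obtain ⟨r, hr⟩ := hQ.index (frattini Q)
    rw [hr] at hidx ⊢
    have hr2 : r ≤ 2 := (Nat.pow_le_pow_iff_right one_lt_two).1 hidx
    rcases (by omega : r ≤ 1 ∨ r = 2) with h | h
    · refine absurd (eq_one_of_trivial_frattini hQ hodd fun x => ?_) hne
      by_cases hx : x ∈ frattini Q
      · exact mul_mem (apply_mem_frattini α hx) (inv_mem hx)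
      · interval_cases r
        · rw [pow_zero, Subgroup.index_eq_one] at hr
          exact absurd (hr ▸ Subgroup.mem_top x) hx
        · rw [pow_one] at hr
          rw [Subgroup.mul_mem_iff_of_index_two hr, inv_mem_iff]
          exact ⟨fun h => by simpa using apply_mem_frattini α⁻¹ h, fun h => absurd h hx⟩
    · rw [h]
  have hnot : ∀ i j : ℤ, ¬ (2 ∣ i ∧ 2 ∣ j) → b ^ i * a ^ j ∉ frattini Q := by
    -- otherwise the Frattini quotient is cyclic
    intro i j hij hmem
    let π := QuotientGroup.mk' (frattini Q)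
    have h2 : ∀ c : Q, π c ^ (2 : ℤ) = 1 := fun c => by
      rw [← map_zpow]
      exact (QuotientGroup.eq_one_iff _).2 (by
        rw [zpow_ofNat]; exact CfsgLib.Solvable.pow_mem_frattini hQ c)
    have hred : ∀ (c : Q) (k : ℤ), π c ^ k = π c ^ (k % 2) := fun c k => by
      conv_lhs => rw [← Int.mul_ediv_add_emod k 2, zpow_add, zpow_mul, h2, one_zpow, one_mul]
    have hrel : π b ^ (i % 2) * π a ^ (j % 2) = 1 := by
      rw [← hred, ← hred, ← map_zpow, ← map_zpow, ← map_mul]
      exact (QuotientGroup.eq_one_iff _).2 hmem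
    have hcyc : ∃ c : Q, ∀ x, π x ∈ Subgroup.zpowers (π c) := by
      rcases Int.emod_two_eq_zero_or_one i with hi | hi <;>
        rcases Int.emod_two_eq_zero_or_one j with hj | hj <;>
        rw [hi, hj] at hrel <;> simp only [zpow_zero, zpow_one, one_mul, mul_one] at hrel
      · exact absurd ⟨Int.dvd_of_emod_eq_zero hi, Int.dvd_of_emod_eq_zero hj⟩ hij
      · refine ⟨b, fun x => ?_⟩
        obtain ⟨k, l, rfl⟩ := hgen x
        exact ⟨k, by simp [map_mul, map_zpow, hrel]⟩
      · refine ⟨a, fun x => ?_⟩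
        obtain ⟨k, l, rfl⟩ := hgen x
        exact ⟨l, by simp [map_mul, map_zpow, hrel]⟩
      · refine ⟨a, fun x => ?_⟩
        obtain ⟨k, l, rfl⟩ := hgen x
        refine ⟨-k + l, ?_⟩
        show π a ^ (-k + l) = π (b ^ k * a ^ l)
        rw [map_mul, map_zpow, map_zpow, eq_inv_of_mul_eq_one_left hrel, inv_zpow', zpow_add]
    obtain ⟨c, hc'⟩ := hcyc
    have hle : Nat.card (Q ⧸ frattini Q) ≤ 2 := by
      have htop : Subgroup.zpowers (π c) = ⊤ := eq_top_iff.2 fun x _ => by
        obtain ⟨y, rfl⟩ := QuotientGroup.mk_surjective x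
        exact hc' y
      rw [← Subgroup.card_top, ← htop, Nat.card_zpowers]
      refine Nat.le_of_dvd two_pos (orderOf_dvd_of_pow_eq_one ?_)
      exact_mod_cast h2 c
    rw [← Subgroup.index_eq_card, hΦ] at hle
    norm_num at hle
  -- the two generators are independent
  haveI : NeZero (2 ^ (n + 1)) := ⟨by positivity⟩
  let M := 2 ^ (n + 1)
  let hom : Q → (ZMod M →+ Additive Q) := fun c =>
    ZMod.lift M ⟨zmultiplesHom (Additive Q) (Additive.ofMul c), by
      show ((M : ℕ) : ℤ) • Additive.ofMul c = 0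
      rw [natCast_zsmul, ← ofMul_pow, hexp, ofMul_one]⟩
  letI : CommGroup Q := { (inferInstance : Group Q) with mul_comm := hc }
  have hcard : Nat.card Q = 2 ^ (2 * (n + 1)) := by
    let f : ZMod M × ZMod M → Q := fun e => b ^ (e.1.val : ℤ) * a ^ (e.2.val : ℤ)
    have hpm : ∀ (c : Q) (k : ℤ), c ^ k = c ^ ((k : ZMod M).val : ℤ) := fun c k => by
      rw [zpow_eq_zpow_iff_modEq]
      refine Int.ModEq.of_dvd (Int.natCast_dvd_natCast.2 (orderOf_dvd_of_pow_eq_one (hexp c))) ?_
      rw [ZMod.val_intCast]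
      exact (Int.mod_modEq _ _).symm
    have hbij : Function.Bijective f := by
      constructor
      · rintro ⟨i, j⟩ ⟨i', j'⟩ h
        by_contra hne'
        set I : ℤ := (i.val : ℤ) - i'.val with hI
        set J : ℤ := (j.val : ℤ) - j'.val with hJ
        have h0 : b ^ I * a ^ J = 1 := by
          rw [hI, hJ, zpow_sub, zpow_sub, mul_mul_mul_comm, ← mul_inv, mul_inv_eq_one]
          exact h
        have hnd : ¬ ((M : ℤ) ∣ I ∧ (M : ℤ) ∣ J) := by
          rintro ⟨hdi, hdj⟩
          refine hne' (Prod.ext ?_ ?_)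
          · have := (ZMod.intCast_zmod_eq_zero_iff_dvd I M).2 hdi
            simp [hI, sub_eq_zero] at this
            exact this
          · have := (ZMod.intCast_zmod_eq_zero_iff_dvd J M).2 hdj
            simp [hJ, sub_eq_zero] at this
            exact this
        -- write `(I, J) = 2 ^ k (I', J')` with `I', J'` not both even
        have key : ∀ k, k ≤ n + 1 → (2 : ℤ) ^ k ∣ I ∧ (2 : ℤ) ^ k ∣ J := by
          intro k
          induction k with
          | zero => intro _; simp
          | succ k ih =>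
            intro hk
            obtain ⟨⟨I', hI'⟩, ⟨J', hJ'⟩⟩ := ih (by omega)
            by_contra hnk
            have hpar : ¬ (2 ∣ I' ∧ 2 ∣ J') := by
              rintro ⟨⟨u, rfl⟩, ⟨v, rfl⟩⟩
              exact hnk ⟨⟨u, by rw [hI', pow_succ]; ring⟩, ⟨v, by rw [hJ', pow_succ]; ring⟩⟩
            refine hord _ (hnot I' J' hpar) ?_
            obtain ⟨l, hl⟩ := Nat.exists_eq_add_of_le (show k ≤ n by omega)
            rw [hl, pow_add, pow_mul]
            have : (b ^ I' * a ^ J') ^ (2 ^ k) = 1 := by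
              rw [mul_pow, ← zpow_natCast, ← zpow_natCast (a ^ J'), ← zpow_mul, ← zpow_mul]
              push_cast
              rw [mul_comm I', mul_comm J', ← hI', ← hJ']
              exact h0
            rw [this, one_pow]
        exact hnd (by exact_mod_cast key (n + 1) le_rfl)
      · intro x
        obtain ⟨i, j, rfl⟩ := hgen x
        exact ⟨((i : ZMod M), (j : ZMod M)), by simp only [f]; rw [← hpm, ← hpm]⟩
    rw [← Nat.card_congr (Equiv.ofBijective f hbij), Nat.card_prod, Nat.card_zmod, ← pow_add]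
    ring_nf
  obtain ⟨e⟩ := CfsgLib.FusionEssential.exists_mulEquiv_homocyclic 2 hQ hexp hΦ hcard
  exact ⟨n + 1, ⟨e.trans (AddEquiv.toMultiplicative
    (LinearEquiv.finTwoArrow (ZMod (2 ^ (n + 1))) (ZMod (2 ^ (n + 1)))).toAddEquiv.symm)⟩⟩

/-- A non-abelian metacyclic `2`-group with an automorphism of odd order is `Q₈`. -/
theorem quaternion_of_not_comm [Finite Q] (hQ : IsPGroup 2 Q) (hm : Cfsg.IsMetacyclic Q)
    {α : MulAut Q} (hodd : Odd (orderOf α)) (hne : α ≠ 1) (hna : ¬ IsMulCommutative Q) :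
    Nonempty (Q ≃* QuaternionGroup 2) := by
  classical
  have hidx := index_frattini_le hQ hm
  have haut : ¬ IsPGroup 2 (MulAut Q) := fun h => hne (by
    obtain ⟨k, hk⟩ := IsPGroup.iff_orderOf.1 h α
    rw [hk] at hodd
    rcases k with _ | k
    · exact orderOf_eq_one_iff.1 (by rw [hk, pow_zero])
    · exact absurd hodd (by simp [pow_succ]))
  obtain ⟨a, b, hNn, hK, hgen⟩ := exists_gens hm
  set K := commutator Q with hKdef
  haveI : K.Normal := by rw [hKdef]; infer_instance
  obtain ⟨m, hm'⟩ := IsPGroup.iff_card.1 hQ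
  have hex : ∃ e, ∀ x : Q, x ^ (2 ^ e) ∈ K := ⟨m, fun x => by
    rw [← hm', pow_card_eq_one']; exact one_mem _⟩
  have he := Nat.find_spec hex
  by_cases h1 : Nat.find hex ≤ 1
  · -- the Frattini subgroup is the derived subgroup
    have hsq : ∀ x : Q, x ^ 2 ∈ K := fun x => by
      rcases Nat.le_one_iff_eq_zero_or_eq_one.1 h1 with h | h <;> rw [h] at he
      · simpa [sq] using mul_mem (he x) (he x)
      · simpa using he x
    have hΦK : frattini Q = K :=
      le_antisymm (CfsgLib.Solvable.frattini_le_of_elementary le_rfl hsq)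
        (CfsgLib.Solvable.commutator_le_frattini hQ)
    refine Cfsg.Agent.S4189.result hQ hna ?_ haut
    rw [← hKdef, ← hΦK]
    obtain ⟨r, hr⟩ := hQ.index (frattini Q)
    rw [hr] at hidx ⊢
    have hr2 : r ≤ 2 := (Nat.pow_le_pow_iff_right one_lt_two).1 hidx
    by_contra h4
    refine hne (eq_one_of_trivial_frattini hQ hodd fun x => ?_)
    interval_cases r
    · rw [pow_zero, Subgroup.index_eq_one] at hr
      exact hr ▸ Subgroup.mem_top _
    · rw [pow_one] at hr
      rw [Subgroup.mul_mem_iff_of_index_two hr, inv_mem_iff]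
      exact ⟨fun h => by simpa using apply_mem_frattini α⁻¹ h, fun h => apply_mem_frattini α h⟩
    · exact absurd rfl h4
  exfalso
  obtain ⟨n, hn⟩ : ∃ n, Nat.find hex = n + 1 + 1 := ⟨Nat.find hex - 2, by omega⟩
  rw [hn] at he
  have hnot : ∃ x : Q, x ^ (2 ^ (n + 1)) ∉ K := by
    by_contra h
    push Not at h
    have := Nat.find_min' hex h
    omega
  -- elements outside `Φ` have order `2 ^ (n + 2)` modulo `K`
  have hordK : ∀ x : Q, x ∉ frattini Q → x ^ (2 ^ (n + 1)) ∉ K := by
    intro x hx hxn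
    let π := QuotientGroup.mk' K
    have hπc : ∀ u v : Q, Commute (π u) (π v) := fun u v => by
      rw [← commutatorElement_eq_one_iff_commute, ← map_commutatorElement]
      exact (QuotientGroup.eq_one_iff _).2
        (Subgroup.commutator_mem_commutator (Subgroup.mem_top u) (Subgroup.mem_top v))
    have hmul : ∀ u v : Q, π ((u * v) ^ (2 ^ (n + 1))) =
        π (u ^ (2 ^ (n + 1))) * π (v ^ (2 ^ (n + 1))) := fun u v => by
      rw [map_pow, map_mul, (hπc u v).mul_pow, map_pow, map_pow]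
    let L : Subgroup Q :=
      { carrier := {y | y ^ (2 ^ (n + 1)) ∈ K}
        one_mem' := by
          show (1 : Q) ^ (2 ^ (n + 1)) ∈ K
          rw [one_pow]; exact one_mem _
        mul_mem' := fun {u v} hu hv => by
          refine (QuotientGroup.eq_one_iff _).1 ((hmul u v).trans ?_)
          rw [(QuotientGroup.eq_one_iff (N := K) _).2 hu |> fun h => (show π _ = 1 from h),
            (QuotientGroup.eq_one_iff (N := K) _).2 hv |> fun h => (show π _ = 1 from h), one_mul]
        inv_mem' := fun {u} hu => by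
          show (u⁻¹) ^ (2 ^ (n + 1)) ∈ K
          rw [inv_pow]; exact inv_mem hu }
    haveI : L.Normal := ⟨fun y hy g => by
      show (g * y * g⁻¹) ^ (2 ^ (n + 1)) ∈ K
      rw [conj_pow]
      exact (inferInstance : K.Normal).conj_mem _ hy g⟩
    have hle : frattini Q ≤ L := by
      refine CfsgLib.Solvable.frattini_le_of_elementary (p := 2)
        (fun y hy => Subgroup.pow_mem K hy _) fun y => ?_
      show (y ^ 2) ^ (2 ^ (n + 1)) ∈ K
      rw [← pow_mul, ← pow_succ']
      exact he y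
    rcases eq_frattini_or_top hQ hidx hodd hne hle (fun y hy => by
        show (α y) ^ (2 ^ (n + 1)) ∈ K
        rw [← map_pow]
        have h := Subgroup.Characteristic.fixed (H := K) inferInstance α
        have hy' : y ^ (2 ^ (n + 1)) ∈ K := hy
        rw [← h] at hy'
        exact hy') with h | h
    · exact hx (h ▸ (show x ∈ L from hxn))
    · obtain ⟨z, hz⟩ := hnot
      exact hz (h ▸ Subgroup.mem_top z : z ∈ L)
  have haΦ : a ∉ frattini Q := by
    intro haΦ
    have hcyc : ⊤ ≤ Subgroup.zpowers b ⊔ frattini Q := fun x _ => by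
      obtain ⟨i, j, rfl⟩ := hgen x
      exact mul_mem (Subgroup.mem_sup_left (zpow_mem (Subgroup.mem_zpowers b) i))
        (Subgroup.mem_sup_right (zpow_mem haΦ j))
    have htop := CfsgLib.Solvable.eq_top_of_sup_frattini (top_le_iff.1 hcyc)
    refine hna ⟨⟨fun x y => ?_⟩⟩
    obtain ⟨i, rfl⟩ := (htop ▸ Subgroup.mem_top x : x ∈ Subgroup.zpowers b)
    obtain ⟨j, rfl⟩ := (htop ▸ Subgroup.mem_top y : y ∈ Subgroup.zpowers b)
    exact ((Commute.refl b).zpow_zpow i j).eq
  set c := a ^ (2 ^ (n + 1 + 1)) with hcdef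
  have hcK : c ∈ K := he a
  have haK := hordK a haΦ
  -- `K` is generated by `c`
  have hKc : ∀ y ∈ K, ∃ j : ℤ, y = c ^ j := by
    intro y hy
    obtain ⟨i, hi⟩ := hK hy
    change a ^ i = y at hi
    by_cases hdvd : ((2 ^ (n + 1 + 1) : ℕ) : ℤ) ∣ i
    · obtain ⟨j, rfl⟩ := hdvd
      exact ⟨j, by rw [← hi, hcdef, zpow_mul, zpow_natCast]⟩
    · exfalso
      apply haK
      obtain ⟨e, hele, hg⟩ := (Nat.dvd_prime_pow Nat.prime_two).1
        (Int.natCast_dvd_natCast.1 (Int.gcd_dvd_right i ((2 ^ (n + 1 + 1) : ℕ) : ℤ)))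
      have he' : e ≤ n + 1 := by
        by_contra hlt
        have hee : e = n + 1 + 1 := by omega
        exact hdvd (by
          have h := Int.gcd_dvd_left i ((2 ^ (n + 1 + 1) : ℕ) : ℤ)
          rwa [hg, hee] at h)
      have hmemg : a ^ (2 ^ e) ∈ K := by
        have hb := Int.gcd_eq_gcd_ab i ((2 ^ (n + 1 + 1) : ℕ) : ℤ)
        rw [hg] at hb
        rw [← zpow_natCast, hb, zpow_add, zpow_mul, zpow_mul, zpow_natCast a (2 ^ (n + 1 + 1)), hi]
        exact mul_mem (zpow_mem hy _) (zpow_mem hcK _)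
      obtain ⟨d, hd⟩ := Nat.exists_eq_add_of_le he'
      rw [hd, pow_add, pow_mul]
      exact pow_mem hmemg _
  have hc1 : c ≠ 1 := fun h => hna ⟨⟨fun x y => by
    rw [← commutatorElement_eq_one_iff_mul_comm]
    obtain ⟨j, hj⟩ := hKc ⁅x, y⁆
      (Subgroup.commutator_mem_commutator (Subgroup.mem_top x) (Subgroup.mem_top y))
    rw [hj, h, one_zpow]⟩⟩
  let L := Subgroup.zpowers (c ^ 2)
  have hpowc : ∀ β : MulAut Q, ∃ s : ℤ, β c = c ^ s ∧ β (c ^ 2) ∈ L := fun β => by
    have h := Subgroup.Characteristic.fixed (H := K) inferInstance β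
    have hc' := hcK
    rw [← h] at hc'
    obtain ⟨s, hs⟩ := hKc _ hc'
    change β c = c ^ s at hs
    exact ⟨s, hs, s, by
      show (c ^ 2) ^ s = β (c ^ 2)
      rw [map_pow, hs, ← zpow_natCast, ← zpow_mul, ← zpow_natCast (c ^ s), ← zpow_mul, mul_comm]⟩
  haveI hLn : L.Normal := ⟨fun y hy g => by
    obtain ⟨k, rfl⟩ := hy
    obtain ⟨s, -, hs⟩ := hpowc (MulAut.conj g)
    show g * (c ^ 2) ^ k * g⁻¹ ∈ L
    rw [← conj_zpow]
    exact zpow_mem hs k⟩
  let ρ := QuotientGroup.mk' L
  have hcL : ρ c ≠ 1 := by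
    intro h
    obtain ⟨k, hk⟩ := (QuotientGroup.eq_one_iff c).1 h
    change (c ^ 2) ^ k = c at hk
    have hdvd : (orderOf c : ℤ) ∣ 2 * k - 1 := by
      rw [orderOf_dvd_iff_zpow_eq_one, zpow_sub_one, zpow_mul, zpow_ofNat, hk, mul_inv_cancel]
    obtain ⟨l, hl⟩ := IsPGroup.iff_orderOf.1 hQ c
    rcases l with _ | l
    · exact hc1 (orderOf_eq_one_iff.1 (by rw [hl, pow_zero]))
    · rw [hl, pow_succ] at hdvd
      have : (2 : ℤ) ∣ 2 * k - 1 := by
        refine dvd_trans ?_ hdvd
        push_cast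
        exact dvd_mul_left _ _
      omega
  have hc2 : ρ c ^ (2 : ℤ) = 1 := by
    rw [← map_zpow, zpow_ofNat]
    exact (QuotientGroup.eq_one_iff _).2 (Subgroup.mem_zpowers _)
  have hcodd : ∀ j : ℤ, ρ c ^ j = 1 ↔ 2 ∣ j := by
    intro j
    constructor
    · intro h
      rcases Int.emod_two_eq_zero_or_one j with hj | hj
      · exact Int.dvd_of_emod_eq_zero hj
      · rw [← Int.mul_ediv_add_emod j 2, hj, zpow_add, zpow_mul, hc2, one_zpow, one_mul,
          zpow_one] at h
        exact absurd h hcL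
    · rintro ⟨u, rfl⟩
      rw [zpow_mul, hc2, one_zpow]
  -- the map `x ↦ x ^ (2 ^ (n + 2))` modulo `L`
  have hKcent : ∀ y ∈ K, ρ y ∈ Subgroup.center (Q ⧸ L) := by
    intro y hy
    obtain ⟨j, rfl⟩ := hKc y hy
    rw [map_zpow]
    refine zpow_mem (Subgroup.mem_center_iff.2 fun g => ?_) j
    obtain ⟨g, rfl⟩ := QuotientGroup.mk_surjective g
    obtain ⟨s, hs, -⟩ := hpowc (MulAut.conj g)
    have hs' : ρ g * ρ c * (ρ g)⁻¹ = ρ c ^ s := by
      rw [← map_inv, ← map_mul, ← map_mul, ← map_zpow]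
      exact congrArg ρ hs
    have hsodd : ρ c ^ s = ρ c := by
      rcases Int.emod_two_eq_zero_or_one s with h | h
      · exfalso
        rw [(hcodd s).2 (Int.dvd_of_emod_eq_zero h), mul_inv_eq_one, mul_eq_left] at hs'
        exact hcL hs'
      · rw [← Int.mul_ediv_add_emod s 2, h, zpow_add, zpow_mul, hc2, one_zpow, one_mul, zpow_one]
    rw [hsodd] at hs'
    exact mul_inv_eq_iff_eq_mul.1 hs'
  have hce : ∀ u v : Q, ρ ⁅u, v⁆ ^ 2 = 1 := fun u v => by
    obtain ⟨j, hj⟩ := hKc ⁅u, v⁆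
      (Subgroup.commutator_mem_commutator (Subgroup.mem_top u) (Subgroup.mem_top v))
    rw [hj, map_zpow, ← zpow_natCast (ρ c ^ j), ← zpow_mul, mul_comm, zpow_mul]
    exact (congrArg (· ^ j) hc2).trans (one_zpow j)
  let f : Q →* Q ⧸ L := MonoidHom.mk' (fun x => ρ x ^ (2 ^ (n + 1 + 1))) fun u v => by
    show ρ (u * v) ^ _ = ρ u ^ _ * ρ v ^ _
    have hyx : v * u = u * v * ⁅v⁻¹, u⁻¹⁆ := by rw [commutatorElement_def]; group
    have h := congrArg ρ hyx
    rw [map_mul, map_mul, map_mul] at h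
    rw [map_mul, CfsgLib.FusionEssential.mul_pow_of_central_commutator h
      (hKcent _ (Subgroup.commutator_mem_commutator (Subgroup.mem_top _) (Subgroup.mem_top _)))]
    have h2 : 2 ∣ (2 ^ (n + 1 + 1)).choose 2 := by
      rw [Nat.choose_two_right, pow_succ, pow_succ]
      have : 2 ^ n * 2 * 2 * (2 ^ n * 2 * 2 - 1) = 2 * (2 * (2 ^ n * (2 ^ n * 2 * 2 - 1))) := by ring
      rw [this, Nat.mul_div_cancel_left _ two_pos]
      exact dvd_mul_right _ _
    obtain ⟨t, ht⟩ := h2
    rw [ht, pow_mul, hce, one_pow, mul_one]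
  have hfc : ∀ x, ∃ j : ℤ, x ^ (2 ^ (n + 1 + 1)) = c ^ j ∧ f x = ρ c ^ j := fun x => by
    obtain ⟨j, hj⟩ := hKc _ (he x)
    exact ⟨j, hj, by show ρ x ^ _ = _; rw [← map_pow, hj, map_zpow]⟩
  have hkle : frattini Q ≤ f.ker := by
    refine CfsgLib.Solvable.frattini_le_of_elementary (p := 2) (fun y hy => ?_) fun y => ?_
    · obtain ⟨j, rfl⟩ := hKc y hy
      show ρ (c ^ j) ^ _ = 1
      rw [map_zpow, ← zpow_natCast, ← zpow_mul, hcodd]
      push_cast
      exact dvd_mul_of_dvd_right (dvd_pow_self _ (by omega)) _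
    · obtain ⟨j, -, hj⟩ := hfc y
      show f (y ^ 2) = 1
      rw [map_pow, hj, ← zpow_natCast, ← zpow_mul, hcodd]
      exact dvd_mul_of_dvd_right dvd_rfl _
  have hkinv : ∀ y ∈ f.ker, α y ∈ f.ker := by
    intro y hy
    obtain ⟨j, hj, hfj⟩ := hfc y
    obtain ⟨s, hs, -⟩ := hpowc α
    have hy' : (2 : ℤ) ∣ j := (hcodd j).1 (hfj ▸ hy)
    show ρ (α y) ^ _ = 1
    rw [← map_pow, ← map_pow, hj, map_zpow, hs, ← zpow_mul, map_zpow, hcodd]
    exact dvd_mul_of_dvd_right hy' _
  have hfa : f a ≠ 1 := by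
    show ρ a ^ _ ≠ 1
    rw [← map_pow]
    exact hcL
  rcases eq_frattini_or_top hQ hidx hodd hne hkle hkinv with h | h
  · -- the kernel of a non-trivial map into a group of order `2` has index `2`
    have hrange : Nat.card f.range ≤ 2 := by
      refine (Subgroup.card_le_of_le (K := Subgroup.zpowers (ρ c)) ?_).trans ?_
      · rintro _ ⟨x, rfl⟩
        obtain ⟨j, -, hj⟩ := hfc x
        exact hj ▸ zpow_mem (Subgroup.mem_zpowers _) j
      · rw [Nat.card_zpowers]
        refine Nat.le_of_dvd two_pos (orderOf_dvd_of_pow_eq_one ?_)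
        exact_mod_cast hc2
    rw [← Subgroup.index_ker, h] at hrange
    obtain ⟨r, hr⟩ := hQ.index (frattini Q)
    rw [hr] at hrange
    have hr1 : r ≤ 1 := (Nat.pow_le_pow_iff_right one_lt_two).1 (by simpa using hrange)
    refine hne (eq_one_of_trivial_frattini hQ hodd fun x => ?_)
    interval_cases r
    · rw [pow_zero, Subgroup.index_eq_one] at hr
      exact hr ▸ Subgroup.mem_top _
    · rw [pow_one] at hr
      rw [Subgroup.mul_mem_iff_of_index_two hr, inv_mem_iff]
      exact ⟨fun h => by simpa using apply_mem_frattini α⁻¹ h, fun h => apply_mem_frattini α h⟩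
  · exact hfa ((MonoidHom.mem_ker (f := f)).1 (h ▸ Subgroup.mem_top a))

end CfsgLib.FusionMetacyclic
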