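import Cfsg.Agent.FusionMetacyclic.Structure
import Cfsg.Agent.TwoGroups.Basic
import Cfsg.Agent.TwoGroupsQ.UniqueInvolution
import Cfsg.Agent.S3224
import Cfsg.Agent.S0519
import Cfsg.Agent.Solvable.Nilpotent
import Cfsg.Prelude.Def_CaseTheorems

/-!
# Self-centralising subgroups `V₄`, `Q₈`, and extensions of homocyclic groups
-/

set_option autoImplicit false
set_option linter.style.haveILetI false

namespace CfsgLib.FusionMetacyclic

open scoped commutatorElement

variable {T : Type*} [Group T] [Finite T]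

/-- An abelian normal subgroup of a metacyclic `2`-group with an automorphism of odd order, whose
Frattini quotient is moved by an element of order `2` modulo it, is elementary abelian. -/
theorem sq_eq_one_of_extension (hT : IsPGroup 2 T) (hm : Cfsg.IsMetacyclic T) (Q : Subgroup T)
    [Q.Normal] (hc : ∀ a b : Q, a * b = b * a) {x : T} (hx2 : x ^ 2 ∈ Q)
    (hgen : ∀ g : T, g ∈ Q ∨ g * x⁻¹ ∈ Q) (hQm : Cfsg.IsMetacyclic ↥Q) {α : MulAut ↥Q}
    (hodd : Odd (orderOf α)) (hne : α ≠ 1)
    (hmove : ∃ q : Q, ∀ h : x * (q : T) * x⁻¹ * (q : T)⁻¹ ∈ Q,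
      (⟨_, h⟩ : Q) ∉ frattini ↥Q) : ∀ q : Q, q ^ 2 = 1 := by
  have hQ : IsPGroup 2 Q := hT.to_subgroup Q
  have hidx := index_frattini_le hQ hQm
  obtain ⟨N, hN, hNc, hTc⟩ := hm
  obtain ⟨q₀, hq₀⟩ := hmove
  have hconj : ∀ (g : T) (q : Q), g * (q : T) * g⁻¹ ∈ Q := fun g q =>
    (inferInstance : Q.Normal).conj_mem _ q.2 g
  -- the elements acting trivially on `Q / Φ(Q)`
  let A : Subgroup T :=
    { carrier := {g | ∀ q : Q, (⟨_, hconj g q⟩ : Q) * q⁻¹ ∈ frattini ↥Q}
      one_mem' := fun q => by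
        simp only [one_mul, inv_one, mul_one, mul_inv_cancel, one_mem]
      mul_mem' := fun {g h} hg hh q => by
        have e : (⟨_, hconj (g * h) q⟩ : Q) * q⁻¹ =
            ((⟨_, hconj g ⟨_, hconj h q⟩⟩ : Q) * (⟨_, hconj h q⟩ : Q)⁻¹) *
              ((⟨_, hconj h q⟩ : Q) * q⁻¹) := Subtype.ext (by simp [mul_assoc])
        rw [e]; exact mul_mem (hg _) (hh q)
      inv_mem' := fun {g} hg q => by
        have e : (⟨_, hconj g⁻¹ q⟩ : Q) * q⁻¹ =
            ((⟨_, hconj g ⟨_, hconj g⁻¹ q⟩⟩ : Q) * (⟨_, hconj g⁻¹ q⟩ : Q)⁻¹)⁻¹ :=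
          Subtype.ext (by simp [mul_assoc])
        rw [e]; exact inv_mem (hg _) }
  have hQA : Q ≤ A := fun g hg q => by
    have e : (⟨_, hconj g q⟩ : Q) * q⁻¹ = 1 := Subtype.ext (by
      show g * (q : T) * g⁻¹ * (q : T)⁻¹ = 1
      rw [show g * (q : T) = q * g from congrArg Subtype.val (hc ⟨g, hg⟩ q), mul_inv_cancel_right,
        mul_inv_cancel])
    rw [e]; exact one_mem _
  have hxA : x ∉ A := fun h => hq₀ (mul_mem (hconj x q₀) (inv_mem q₀.2)) (h q₀)
  -- `M = N ∩ Q` is cyclic
  haveI : IsCyclic ↥(N ⊓ Q) := isCyclic_of_injective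
    (Subgroup.inclusion (inf_le_left : N ⊓ Q ≤ N)) (Subgroup.inclusion_injective _)
  obtain ⟨v, hv⟩ := (Subgroup.isCyclic_iff_exists_zpowers_eq_top (N ⊓ Q)).1 inferInstance
  obtain ⟨hvN, hvQ⟩ : v ∈ N ∧ v ∈ Q := Subgroup.mem_inf.1 (hv ▸ Subgroup.mem_zpowers v)
  obtain ⟨tq, htq⟩ := hTc.exists_generator
  obtain ⟨t, rfl⟩ := QuotientGroup.mk_surjective tq
  have htgen : ∀ g : T, ∃ i : ℤ, (t ^ i)⁻¹ * g ∈ N := fun g => by
    obtain ⟨i, hi⟩ := Subgroup.mem_zpowers_iff.1 (htq g)
    refine ⟨i, QuotientGroup.eq.1 ?_⟩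
    rw [QuotientGroup.mk_zpow]; exact hi
  by_cases hNQ : N ≤ Q
  · exfalso
    apply hxA
    -- `t` acts trivially modulo `Φ`
    have hvgen : ∀ g ∈ N, ∃ j : ℤ, v ^ j = g := fun g hg => by
      have h : g ∈ N ⊓ Q := ⟨hg, hNQ hg⟩
      rw [← hv] at h
      exact h
    obtain ⟨r, hr⟩ := hvgen _ (hN.conj_mem v hvN t)
    have htA : t ∈ A := by
      intro q
      obtain ⟨i, hi⟩ := htgen q
      obtain ⟨j, hj⟩ := hvgen _ hi
      by_cases hev : (2 : ℤ) ∣ r - 1
      · obtain ⟨s, hs⟩ := hev
        have e : (⟨_, hconj t q⟩ : Q) * q⁻¹ = (⟨v, hvQ⟩ : Q) ^ (2 * s * j) := Subtype.ext (by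
          show t * (q : T) * t⁻¹ * (q : T)⁻¹ = ((⟨v, hvQ⟩ : Q) ^ (2 * s * j) : Q)
          rw [SubgroupClass.coe_zpow, show (q : T) = t ^ i * v ^ j by
            rw [hj, mul_inv_cancel_left]]
          have e1 : t * (t ^ i * v ^ j) * t⁻¹ = t ^ i * v ^ (r * j) := by
            rw [zpow_mul, hr, conj_zpow, ← mul_assoc, ← mul_assoc,
              (Commute.self_zpow t i).eq]
            simp only [mul_assoc]
          have e2 : r * j = 2 * s * j + j := by rw [show r = 2 * s + 1 by omega]; ring
          have hti : t ^ i ∈ Q := by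
            have h : t ^ i = (q : T) * (v ^ j)⁻¹ := by rw [hj]; group
            rw [h]
            exact mul_mem q.2 (inv_mem (zpow_mem hvQ _))
          have hcv : Commute (t ^ i) (v ^ (2 * s * j)) :=
            congrArg Subtype.val (hc ⟨_, hti⟩ ⟨_, zpow_mem hvQ _⟩)
          rw [e1, e2, zpow_add, ← mul_assoc, hcv.eq, mul_assoc (v ^ (2 * s * j)),
            mul_inv_cancel_right])
        rw [e, mul_assoc, zpow_mul, zpow_ofNat]
        exact zpow_mem (CfsgLib.Solvable.pow_mem_frattini hQ _) _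
      · -- `r` is odd unless `v = 1`
        have hr' : (2 : ℤ) ∣ r := by omega
        have hv1 : v = 1 := by
          by_contra hv1
          obtain ⟨l, hl⟩ := IsPGroup.iff_orderOf.1 hT v
          rcases l with _ | l
          · exact hv1 (orderOf_eq_one_iff.1 (by rw [hl, pow_zero]))
          · obtain ⟨s, rfl⟩ := hr'
            have h1 : (v ^ (2 ^ l)) ≠ 1 := fun h => by
              have := Nat.le_of_dvd (pow_pos two_pos _) (orderOf_dvd_of_pow_eq_one h)
              rw [hl] at this
              exact absurd this (not_le.2 (Nat.pow_lt_pow_right one_lt_two (by omega)))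
            apply h1
            have h2 : (v ^ (2 * s)) ^ (2 ^ l) = 1 := by
              rw [mul_comm 2 s, zpow_mul, zpow_ofNat, ← pow_mul, ← pow_succ', ← hl,
                ← zpow_natCast, ← zpow_mul, mul_comm, zpow_mul, zpow_natCast, pow_orderOf_eq_one,
                one_zpow]
            rw [hr, conj_pow, conj_eq_one_iff] at h2
            exact h2
        have e : (⟨_, hconj t q⟩ : Q) * q⁻¹ = 1 := Subtype.ext (by
          show t * (q : T) * t⁻¹ * (q : T)⁻¹ = 1
          rw [show (q : T) = t ^ i by rw [hv1, one_zpow] at hj; exact (inv_mul_eq_one.1 hj.symm).symm,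
            (Commute.self_zpow t i).eq, mul_inv_cancel_right, mul_inv_cancel])
        rw [e]; exact one_mem _
    obtain ⟨i, hi⟩ := htgen x
    rw [show x = t ^ i * ((t ^ i)⁻¹ * x) by rw [mul_inv_cancel_left]]
    exact mul_mem (zpow_mem htA i) (hQA (hNQ hi))
  · -- a generator `u` of `N` lies outside `Q` and `u ^ 2` generates `M`
    obtain ⟨u, hu⟩ := (Subgroup.isCyclic_iff_exists_zpowers_eq_top N).1 hNc
    have huN : u ∈ N := hu ▸ Subgroup.mem_zpowers u
    have huQ : u ∉ Q := fun h => hNQ (hu ▸ Subgroup.zpowers_le.2 h)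
    have hxQ : x ∉ Q := fun h => hxA (hQA h)
    have hu2 : u ^ 2 ∈ Q := by
      have h1 : u * x⁻¹ ∈ Q := (hgen u).resolve_left huQ
      have h2 : u ^ 2 = u * x⁻¹ * (x * (u * x⁻¹) * x⁻¹) * x ^ 2 := by
        simp only [sq]; group
      rw [h2]
      exact mul_mem (mul_mem h1 ((inferInstance : Q.Normal).conj_mem _ h1 x)) hx2
    have hxu : x ∈ A ↔ u ∈ A := by
      have h1 : u * x⁻¹ ∈ A := hQA ((hgen u).resolve_left huQ)
      constructor
      · intro h; simpa using mul_mem h1 h
      · intro h; simpa using mul_mem (inv_mem h1) h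
    have heven : ∀ m : ℤ, u ^ m ∈ Q → 2 ∣ m := by
      intro m hm'
      rcases Int.emod_two_eq_zero_or_one m with h | h
      · exact Int.dvd_of_emod_eq_zero h
      · rw [← Int.mul_ediv_add_emod m 2, h, zpow_add, zpow_one, zpow_mul, zpow_ofNat] at hm'
        exact absurd ((Subgroup.mul_mem_cancel_left Q (zpow_mem hu2 _)).1 hm') huQ
    -- `M = ⟨u²⟩` is not contained in `Φ`
    have huΦ : (⟨u ^ 2, hu2⟩ : Q) ∉ frattini ↥Q := by
      intro hu2Φ
      let π : Q →* T ⧸ N := (QuotientGroup.mk' N).comp Q.subtype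
      have hker : π.ker ≤ frattini ↥Q := by
        intro q hq
        have hqN : (q : T) ∈ N := (QuotientGroup.eq_one_iff _).1 hq
        rw [← hu] at hqN
        obtain ⟨m, hm'⟩ := hqN
        change u ^ m = (q : T) at hm'
        obtain ⟨l, rfl⟩ := heven m (hm' ▸ q.2)
        rw [show q = (⟨u ^ 2, hu2⟩ : Q) ^ l from Subtype.ext (by
          rw [SubgroupClass.coe_zpow, ← hm', zpow_mul, zpow_ofNat])]
        exact zpow_mem hu2Φ _
      haveI : IsCyclic π.range := inferInstance
      obtain ⟨⟨_, c, rfl⟩, hc'⟩ := IsCyclic.exists_generator (α := π.range)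
      have htop : Subgroup.zpowers c ⊔ frattini ↥Q = ⊤ := eq_top_iff.2 fun q _ => by
        obtain ⟨k, hk⟩ := Subgroup.mem_zpowers_iff.1 (hc' ⟨π q, q, rfl⟩)
        have hk' : π c ^ k = π q := congrArg Subtype.val hk
        rw [show q = c ^ k * ((c ^ k)⁻¹ * q) by rw [mul_inv_cancel_left]]
        refine mul_mem (Subgroup.mem_sup_left (zpow_mem (Subgroup.mem_zpowers c) k))
          (Subgroup.mem_sup_right (hker ?_))
        rw [MonoidHom.mem_ker, map_mul, map_inv, map_zpow, hk', inv_mul_cancel]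
      have htop' := CfsgLib.Solvable.eq_top_of_sup_frattini htop
      refine hne (eq_one_of_trivial_frattini hQ hodd fun q => ?_)
      -- the Frattini subgroup of a cyclic group contains all squares
      obtain ⟨k, hk⟩ := Subgroup.mem_zpowers_iff.1 (htop' ▸ Subgroup.mem_top (α c))
      obtain ⟨i, rfl⟩ := Subgroup.mem_zpowers_iff.1 (htop' ▸ Subgroup.mem_top q)
      rw [map_zpow, ← hk, ← zpow_mul, ← zpow_neg, ← zpow_add]
      rcases Int.emod_two_eq_zero_or_one k with h | h
      · have hcΦ : c ∈ frattini ↥Q := by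
          have h3 : α c ∈ frattini ↥Q := by
            rw [← hk, ← Int.mul_ediv_add_emod k 2, h, add_zero, zpow_mul, zpow_ofNat]
            exact zpow_mem (CfsgLib.Solvable.pow_mem_frattini hQ _) _
          simpa using apply_mem_frattini α⁻¹ h3
        exact zpow_mem hcΦ _
      · rw [show k * i + -i = 2 * ((k / 2) * i) by
          conv_lhs => rw [← Int.mul_ediv_add_emod k 2, h]
          ring]
        rw [zpow_mul, zpow_ofNat]
        exact zpow_mem (CfsgLib.Solvable.pow_mem_frattini hQ _) _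
    obtain ⟨n, hexp, hord⟩ := exists_uniform_exponent hQ hidx hodd hne hc
    -- some `[q, u]` is an odd power of `u ^ 2`, which therefore has order `2`
    obtain ⟨q, hq⟩ : ∃ q : Q, (⟨_, hconj u q⟩ : Q) * q⁻¹ ∉ frattini ↥Q := by
      by_contra h
      push Not at h
      exact hxA (hxu.2 h)
    obtain ⟨k, hk⟩ : ∃ k : ℤ, u ^ k = u * (q : T) * u⁻¹ * (q : T)⁻¹ := by
      have h1 : u * (q : T) * u⁻¹ * (q : T)⁻¹ ∈ N := by
        have := hN.conj_mem _ (inv_mem huN) (q : T)
        rw [mul_assoc, mul_assoc]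
        refine mul_mem huN ?_
        rwa [← mul_assoc]
      rw [← hu] at h1
      exact h1
    obtain ⟨l, rfl⟩ := heven k (hk ▸ mul_mem (hconj u q) (inv_mem q.2))
    set w : Q := ⟨u ^ 2, hu2⟩ with hw
    have hqw : (⟨_, hconj u q⟩ : Q) * q⁻¹ = w ^ l := Subtype.ext (by
      show u * (q : T) * u⁻¹ * (q : T)⁻¹ = ((w ^ l : Q) : T)
      rw [SubgroupClass.coe_zpow, ← hk, hw, zpow_mul, zpow_ofNat])
    have hlodd : ¬ (2 : ℤ) ∣ l := by
      rintro ⟨s, rfl⟩
      apply hq
      rw [hqw, zpow_mul, zpow_ofNat]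
      exact zpow_mem (CfsgLib.Solvable.pow_mem_frattini hQ w) s
    -- `q` centralises `u ^ 2`
    have hw2 : (w ^ l) ^ 2 = 1 := by
      have h1 : (q : T) * u * (q : T)⁻¹ = (u ^ (2 * l))⁻¹ * u := by
        rw [hk]; group
      have h2 : (q : T) * u ^ 2 * (q : T)⁻¹ = u ^ 2 := by
        rw [show (q : T) * u ^ 2 = u ^ 2 * q from congrArg Subtype.val (hc q w),
          mul_inv_cancel_right]
      have h3 : ((q : T) * u * (q : T)⁻¹) ^ 2 = u ^ 2 := by rw [conj_pow, h2]
      rw [h1, (((Commute.refl u).zpow_left _).inv_left).mul_pow, mul_eq_right, inv_pow,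
        inv_eq_one] at h3
      refine Subtype.ext ?_
      rw [SubgroupClass.coe_pow, SubgroupClass.coe_zpow, hw, Subgroup.coe_one]
      rw [zpow_mul, zpow_ofNat] at h3
      exact h3
    have hn : n = 0 := by
      by_contra hn0
      have hwl : w ^ l ∉ frattini ↥Q := fun h => huΦ (by
        have h4 : w ∈ frattini ↥Q ↔ w ^ l ∈ frattini ↥Q := by
          have hl2 : l % 2 = 1 := by omega
          conv_rhs => rw [← Int.mul_ediv_add_emod l 2, hl2, zpow_add, zpow_mul, zpow_one,
            zpow_ofNat]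
          rw [Subgroup.mul_mem_cancel_left _ (zpow_mem (CfsgLib.Solvable.pow_mem_frattini hQ w) _)]
        exact h4.2 h)
      refine hord _ hwl ?_
      obtain ⟨m, rfl⟩ := Nat.exists_eq_succ_of_ne_zero hn0
      rw [pow_succ', pow_mul, hw2, one_pow]
    intro q'
    simpa [hn] using hexp q'

/-- A `2`-group with a self-centralising four-group of proper order is dihedral or semidihedral. -/
theorem of_klein_self_centralizing {P : Type*} [Group P] [Finite P] (hP : IsPGroup 2 P)
    (Q : Subgroup P) (hcard : Nat.card Q = 4) (hexp : ∀ q ∈ Q, q ^ 2 = 1)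
    (hC : ∀ g : P, (∀ q ∈ Q, g * q = q * g) → g ∈ Q) (hne : Q ≠ ⊤) :
    (∃ n : ℕ, Nonempty (P ≃* DihedralGroup n)) ∨ Cfsg.IsQuasiDihedral P := by
  have hlt : 4 < Nat.card P := by
    rw [← hcard]
    exact lt_of_le_of_ne (Subgroup.card_le_card_group Q) fun h =>
      hne (Subgroup.eq_top_of_card_eq Q h)
  haveI : Nontrivial P := Finite.one_lt_card_iff_nontrivial.1 (by omega)
  haveI := hP.center_nontrivial
  obtain ⟨⟨z, hz⟩, hz1⟩ := exists_ne (1 : Subgroup.center P)
  have hz1' : z ≠ 1 := fun h => hz1 (Subtype.ext h)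
  have hzQ : z ∈ Q := hC z fun q _ => (Subgroup.mem_center_iff.1 hz q).symm
  obtain ⟨a, haQ, ha1, haz⟩ : ∃ a ∈ Q, a ≠ 1 ∧ a ≠ z := by
    by_contra h
    push Not at h
    have hle : Q ≤ Subgroup.zpowers z := fun a ha => by
      by_cases h1 : a = 1
      · rw [h1]; exact one_mem _
      · rw [h a ha h1]; exact Subgroup.mem_zpowers z
    have := (Subgroup.card_le_of_le hle).trans_eq (Nat.card_zpowers z)
    have h2 : orderOf z = 2 := orderOf_eq_prime (hexp z hzQ) hz1'
    omega
  have ha2 : orderOf a = 2 := orderOf_eq_prime (hexp a haQ) ha1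
  have hQc : ∀ p ∈ Q, ∀ q ∈ Q, p * q = q * p := fun p hp q hq => by
    have h := hexp _ (mul_mem hp hq)
    rw [sq] at h
    have hpi : p⁻¹ = p := inv_eq_of_mul_eq_one_right (by rw [← sq]; exact hexp p hp)
    have hqi : q⁻¹ = q := inv_eq_of_mul_eq_one_right (by rw [← sq]; exact hexp q hq)
    rw [eq_inv_of_mul_eq_one_left h, mul_inv_rev, hpi, hqi]
  have hCeq : Subgroup.centralizer ({a} : Set P) = Q := by
    ext g
    rw [Subgroup.mem_centralizer_singleton_iff]
    refine ⟨fun hg => hC g fun q hq => ?_, fun hg => hQc g hg a haQ⟩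
    have hza : Subgroup.closure {z, a} = Q := by
      refine Subgroup.eq_of_le_of_card_ge ((Subgroup.closure_le _).2 (by
        rintro _ (rfl | rfl) <;> assumption)) ?_
      obtain ⟨i, hi⟩ := IsPGroup.iff_card.1 (hP.to_subgroup (Subgroup.closure {z, a}))
      rw [hcard, hi]
      by_contra hlt'
      have hzp : Subgroup.zpowers z = Subgroup.closure {z, a} := by
        refine Subgroup.eq_of_le_of_card_ge (Subgroup.zpowers_le.2
          (Subgroup.subset_closure (Or.inl rfl))) ?_
        rw [Nat.card_zpowers, orderOf_eq_prime (hexp z hzQ) hz1', hi]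
        rcases i with _ | _ | i
        · simp
        · simp
        · exact absurd (Nat.pow_le_pow_right two_pos (show 2 ≤ i + 1 + 1 by omega)) hlt'
      have hmem : a ∈ Subgroup.zpowers z := hzp ▸ Subgroup.subset_closure (Or.inr rfl)
      obtain ⟨k, hk⟩ := hmem
      change z ^ k = a at hk
      rcases Int.emod_two_eq_zero_or_one k with h | h
      · apply ha1
        rw [← hk, ← Int.mul_ediv_add_emod k 2, h, add_zero, zpow_mul, zpow_ofNat, hexp z hzQ,
          one_zpow]
      · apply haz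
        rw [← hk, ← Int.mul_ediv_add_emod k 2, h, zpow_add, zpow_mul, zpow_ofNat, hexp z hzQ,
          one_zpow, one_mul, zpow_one]
    rw [← hza] at hq
    induction hq using Subgroup.closure_induction with
    | mem y hy =>
      rcases hy with rfl | rfl
      · exact Subgroup.mem_center_iff.1 hz g
      · exact hg
    | one => simp
    | mul p q _ _ hp hq =>
      exact (Commute.mul_right (show Commute g p from hp) (show Commute g q from hq)).eq
    | inv p _ hp => exact (Commute.inv_right (show Commute g p from hp)).eq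
  rcases Cfsg.Agent.S3224.result hP a ha2 (by rw [hCeq, hcard]) with h | h | h
  · exact Or.inl h
  · exact Or.inr h
  · omega

/-- A `2`-group with a quaternion subgroup of order `8` with minimal centraliser. -/
theorem of_quaternion_self_centralizing {P : Type*} [Group P] [Finite P] (hP : IsPGroup 2 P)
    (Q : Subgroup P) (e : Q ≃* QuaternionGroup 2)
    (hC : ∀ g : P, (∀ q ∈ Q, g * q = q * g) → g ∈ Q) :
    (∃ n : ℕ, Nonempty (P ≃* DihedralGroup n)) ∨ (∃ m : ℕ, Nonempty (P ≃* QuaternionGroup m)) ∨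
      Cfsg.IsQuasiDihedral P := by
  obtain ⟨i, hiQ, j, hjQ, hij⟩ := CfsgLib.TwoGroups.quaternion8_not_comm e
  obtain ⟨-, hij2, hi2⟩ := CfsgLib.TwoGroups.quaternion8_inverts e hiQ hjQ hij
  set z := i * i with hzdef
  -- `z` is the only involution of `Q`, and the centre of `P` is `⟨z⟩`
  have hinvol : ∀ q ∈ Q, q * q = 1 → q = 1 ∨ q = z := by
    have hd : ∀ q r : QuaternionGroup 2, q * q = 1 → r * r ≠ 1 → q = 1 ∨ q = r * r := by decide
    intro q hq hq2
    have h := hd (e ⟨q, hq⟩) (e ⟨i, hiQ⟩) (by rw [← map_mul]; simp [hq2])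
      (fun h => hi2 (by
        rw [← map_mul, EmbeddingLike.map_eq_one_iff] at h
        exact congrArg Subtype.val h))
    rw [← map_mul, EmbeddingLike.map_eq_one_iff, EmbeddingLike.apply_eq_iff_eq] at h
    exact h.imp (congrArg Subtype.val) (congrArg Subtype.val)
  have hcQ : ∀ g : P, g * i = i * g → g * j = j * g → g ∈ Q → g * g = 1 := by
    have hd : ∀ g a b : QuaternionGroup 2, g * a = a * g → g * b = b * g → a * b ≠ b * a →
        g * g = 1 := by decide
    intro g hgi hgj hg
    have h := hd (e ⟨g, hg⟩) (e ⟨i, hiQ⟩) (e ⟨j, hjQ⟩) (by rw [← map_mul, ← map_mul]; simp [hgi])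
      (by rw [← map_mul, ← map_mul]; simp [hgj]) (fun h => hij (by
        rw [← map_mul, ← map_mul, EmbeddingLike.apply_eq_iff_eq] at h
        exact congrArg Subtype.val h))
    rw [← map_mul, EmbeddingLike.map_eq_one_iff] at h
    exact congrArg Subtype.val h
  haveI : Group.IsNilpotent P := hP.isNilpotent
  have hcent : ∀ g ∈ Subgroup.center P, g = 1 ∨ g = z := by
    intro g hg
    have hg' : g ∈ Q := hC g fun q _ => (Subgroup.mem_center_iff.1 hg q).symm
    exact hinvol g hg' (hcQ g (Subgroup.mem_center_iff.1 hg i).symm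
      (Subgroup.mem_center_iff.1 hg j).symm hg')
  have hzc : z ∈ Subgroup.center P := by
    haveI : Nontrivial P := ⟨⟨i * j, j * i, hij⟩⟩
    haveI := hP.center_nontrivial
    obtain ⟨⟨w, hw⟩, hw1⟩ := exists_ne (1 : Subgroup.center P)
    rcases hcent w hw with h | h
    · exact absurd (Subtype.ext h) hw1
    · exact h ▸ hw
  have hz1 : z ≠ 1 := hi2
  have hz2 : z * z = 1 := hcQ z (Subgroup.mem_center_iff.1 hzc i).symm
    (Subgroup.mem_center_iff.1 hzc j).symm (mul_mem hiQ hiQ)
  have hcentz : ∀ g : P, z * g = g * z := fun g => (Subgroup.mem_center_iff.1 hzc g).symm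
  have hzpow : ∀ y ∈ Subgroup.zpowers z, y = 1 ∨ y = z := by
    rintro _ ⟨k, rfl⟩
    show z ^ k = 1 ∨ z ^ k = z
    rcases Int.emod_two_eq_zero_or_one k with h | h
    · exact Or.inl (by
        rw [← Int.mul_ediv_add_emod k 2, h, add_zero, zpow_mul, zpow_ofNat, sq, hz2, one_zpow])
    · exact Or.inr (by
        rw [← Int.mul_ediv_add_emod k 2, h, zpow_add, zpow_mul, zpow_ofNat, sq, hz2, one_zpow,
          one_mul, zpow_one])
  -- every normal abelian subgroup is cyclic
  have hab : ∀ A : Subgroup P, A.Normal → IsMulCommutative A → IsCyclic A := by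
    intro A hA hAc
    by_contra hncyc
    -- an involution of `A` other than `z` with all conjugates in `{e, e z}`
    haveI := hA
    let W : Subgroup P :=
      { carrier := {w | w ∈ A ∧ w * w = 1}
        one_mem' := ⟨one_mem _, one_mul _⟩
        mul_mem' := fun {a b} ha hb => ⟨mul_mem ha.1 hb.1, by
          have h : a * b = b * a :=
            congrArg Subtype.val (hAc.is_comm.comm ⟨a, ha.1⟩ ⟨b, hb.1⟩)
          calc a * b * (a * b) = a * (b * a) * b := by simp only [mul_assoc]
            _ = a * (a * b) * b := by rw [h]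
            _ = a * a * (b * b) := by simp only [mul_assoc]
            _ = 1 := by rw [ha.2, hb.2, one_mul]⟩
        inv_mem' := fun {a} ha => ⟨inv_mem ha.1, by rw [← mul_inv_rev, ha.2, inv_one]⟩ }
    haveI hWn : W.Normal := ⟨fun w hw g => ⟨hA.conj_mem w hw.1 g, by
      rw [conj_mul, hw.2, mul_one, mul_inv_cancel]⟩⟩
    have hWbig : ¬ W ≤ Subgroup.zpowers z := by
      intro hle
      apply hncyc
      have key : ∀ a : A, a ^ 2 = 1 → a ≠ 1 → (a : P) = z := by
        intro a ha ha1
        rw [sq] at ha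
        rcases hzpow _ (hle ⟨a.2, congrArg Subtype.val ha⟩) with h | h
        · exact absurd (Subtype.ext h) ha1
        · exact h
      exact CfsgLib.TwoGroupsQ.isCyclic_of_comm (hP.to_subgroup A)
        (CfsgLib.TwoGroupsQ.hasUniqueOrderP_two fun a b ha ha1 hb hb1 =>
          Subtype.ext ((key a ha ha1).trans (key b hb hb1).symm))
        (fun a b => hAc.is_comm.comm a b)
    obtain ⟨w, hwW, hwz, hwfix⟩ : ∃ w ∈ W, w ∉ Subgroup.zpowers z ∧
        ∀ g : P, g * w * g⁻¹ * w⁻¹ ∈ Subgroup.zpowers z := by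
      haveI : (Subgroup.zpowers z).Normal := ⟨fun y hy g => by
        obtain ⟨k, rfl⟩ := hy
        rw [Subgroup.mem_center_iff.1 (zpow_mem hzc k) g, mul_inv_cancel_right]
        exact ⟨k, rfl⟩⟩
      let π := QuotientGroup.mk' (Subgroup.zpowers z)
      haveI : (W.map π).Normal := hWn.map π (QuotientGroup.mk'_surjective _)
      haveI : Group.IsNilpotent (P ⧸ Subgroup.zpowers z) :=
        (hP.to_quotient (Subgroup.zpowers z)).isNilpotent
      have hne' : W.map π ≠ ⊥ := fun h => hWbig (by
        intro w hw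
        have : π w ∈ (⊥ : Subgroup (P ⧸ Subgroup.zpowers z)) := h ▸ Subgroup.mem_map_of_mem π hw
        exact (QuotientGroup.eq_one_iff w).1 (Subgroup.mem_bot.1 this))
      have hnb := CfsgLib.Solvable.inf_center_ne_bot hne'
      obtain ⟨⟨y, hy⟩, hy1⟩ : ∃ y : ↥(W.map π ⊓ Subgroup.center _), y ≠ 1 := by
        by_contra h
        push Not at h
        exact hnb (eq_bot_iff.2 fun y hy => Subgroup.mem_bot.2 (congrArg Subtype.val (h ⟨y, hy⟩)))
      obtain ⟨⟨w, hw, rfl⟩, hyc⟩ := Subgroup.mem_inf.1 hy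
      refine ⟨w, hw, fun h => hy1 (Subtype.ext ((QuotientGroup.eq_one_iff w).2 h)), fun g => ?_⟩
      refine (QuotientGroup.eq_one_iff _).1 ?_
      show π (g * w * g⁻¹ * w⁻¹) = 1
      rw [map_mul, map_mul, map_mul, map_inv, map_inv, Subgroup.mem_center_iff.1 hyc (π g),
        mul_inv_cancel_right, mul_inv_cancel]
    have hw2 : w * w = 1 := hwW.2
    have hwQ : w ∉ Q := fun h => by
      rcases hinvol w h hw2 with rfl | rfl
      · exact hwz (one_mem _)
      · exact hwz (Subgroup.mem_zpowers _)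
    -- `w` acts on `Q` as an inner automorphism of `Q`
    have hact : ∀ g : P, w * g * w⁻¹ = g ∨ w * g * w⁻¹ = z * g := by
      intro g
      rcases hzpow _ (hwfix g) with h | h
      · left
        rw [mul_inv_eq_one, mul_inv_eq_iff_eq_mul] at h
        rw [← h, mul_inv_cancel_right]
      · right
        rw [mul_inv_eq_iff_eq_mul, mul_inv_eq_iff_eq_mul] at h
        have hwi : w⁻¹ = w := inv_eq_of_mul_eq_one_right hw2
        rw [hwi]
        calc w * g * w = z * (z * w * g) * w := by
              rw [← mul_assoc z, ← mul_assoc z z, hz2, one_mul]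
          _ = z * (g * w) * w := by rw [← h]
          _ = z * g := by rw [mul_assoc z, mul_assoc g, hw2, mul_one]
    have hiji : i * j * i⁻¹ = z * j := by
      have h := (CfsgLib.TwoGroups.quaternion8_inverts e hiQ hjQ hij).1
      rw [h, hij2]
      refine (inv_eq_of_mul_eq_one_right ?_)
      rw [← mul_assoc, ← mul_assoc, mul_assoc (j * j), ← hij2, hz2]
    have hjij : j * i * j⁻¹ = z * i := by
      have h := (CfsgLib.TwoGroups.quaternion8_inverts e hjQ hiQ (fun h => hij h.symm)).1
      rw [h, hzdef]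
      refine (inv_eq_of_mul_eq_one_right ?_)
      rw [← mul_assoc, ← mul_assoc, mul_assoc (i * i), hz2]
    have hQgen : ∀ g : P, g * i = i * g → g * j = j * g → ∀ q ∈ Q, g * q = q * g := by
      intro g hgi hgj q hq
      have hd : ∀ q a b : QuaternionGroup 2, a * b ≠ b * a →
          q = 1 ∨ q = a ∨ q = b ∨ q = a * b ∨ q = a * a ∨ q = a * a * a ∨ q = a * a * b ∨
            q = a * a * (a * b) := by decide
      have h := hd (e ⟨q, hq⟩) (e ⟨i, hiQ⟩) (e ⟨j, hjQ⟩) (fun h => hij (by
        rw [← map_mul, ← map_mul, EmbeddingLike.apply_eq_iff_eq] at h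
        exact congrArg Subtype.val h))
      simp only [← map_mul, EmbeddingLike.map_eq_one_iff, EmbeddingLike.apply_eq_iff_eq,
        Subtype.ext_iff, Subgroup.coe_mul, Subgroup.coe_one] at h
      have ci : Commute g i := hgi
      have cj : Commute g j := hgj
      rcases h with rfl | rfl | rfl | rfl | rfl | rfl | rfl | rfl
      · simp
      · exact hgi
      · exact hgj
      · exact (ci.mul_right cj).eq
      · exact (ci.mul_right ci).eq
      · exact ((ci.mul_right ci).mul_right ci).eq
      · exact ((ci.mul_right ci).mul_right cj).eq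
      · exact ((ci.mul_right ci).mul_right (ci.mul_right cj)).eq
    -- a candidate `q ∈ Q` inducing the same automorphism as `w`
    have hfin : ∀ q ∈ Q, q * i * q⁻¹ = w * i * w⁻¹ → q * j * q⁻¹ = w * j * w⁻¹ → False := by
      intro q hq h1 h2
      have hg : ∀ g, q * g * q⁻¹ = w * g * w⁻¹ → q⁻¹ * w * g = g * (q⁻¹ * w) := by
        intro g hg
        rw [mul_inv_eq_iff_eq_mul] at hg
        calc q⁻¹ * w * g = q⁻¹ * (w * g * w⁻¹) * w := by simp [mul_assoc]
          _ = q⁻¹ * (q * g * q⁻¹) * w := by rw [mul_inv_eq_iff_eq_mul.2 hg]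
          _ = g * (q⁻¹ * w) := by simp [mul_assoc]
      have hmem := hC (q⁻¹ * w) (hQgen _ (hg i h1) (hg j h2))
      exact hwQ (by simpa using mul_mem hq hmem)
    rcases hact i with h1 | h1 <;> rcases hact j with h2 | h2
    · exact hfin 1 (one_mem _) (by rw [h1]; simp) (by rw [h2]; simp)
    · exact hfin i hiQ (by rw [h1, mul_inv_cancel_right]) (by rw [h2, hiji])
    · exact hfin j hjQ (by rw [h1, hjij]) (by rw [h2, mul_inv_cancel_right])
    · refine hfin (i * j) (mul_mem hiQ hjQ) ?_ ?_
      · rw [h1, mul_inv_rev, show i * j * i * (j⁻¹ * i⁻¹) = i * (j * i * j⁻¹) * i⁻¹ by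
          simp [mul_assoc], hjij, ← mul_assoc i, ← hcentz i]
        simp [mul_assoc]
      · rw [h2, mul_inv_rev, show i * j * j * (j⁻¹ * i⁻¹) = i * j * i⁻¹ by simp [mul_assoc], hiji]
  by_cases hB : ∃ B : Subgroup P, IsMulCommutative B ∧ ¬ IsCyclic B
  · obtain ⟨-, h⟩ := Cfsg.Agent.S0519.result 2 hP hab hB
    rcases h with h | ⟨n, -, h⟩ | h
    · exact Or.inr (Or.inl h)
    · exact Or.inl ⟨n, h⟩
    · exact Or.inr (Or.inr h)
  · push Not at hB
    have hu : CfsgLib.TwoGroupsQ.HasUniqueOrderP P 2 := by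
      refine CfsgLib.TwoGroupsQ.hasUniqueOrderP_two fun a b ha ha1 hb hb1 => ?_
      have hkey : ∀ c : P, c ^ 2 = 1 → c ≠ 1 → c = z := by
        intro c hc hc1
        let B : Subgroup P := Subgroup.closure {c, z}
        have hBc : IsMulCommutative B := Subgroup.isMulCommutative_closure (by
          rintro a (rfl | rfl) b (rfl | rfl)
          · rfl
          · exact (hcentz _).symm
          · exact hcentz _
          · rfl)
        obtain ⟨g, hg⟩ := (hB B hBc).exists_generator
        letI : CommGroup B := { (inferInstance : Group B) with mul_comm := hBc.is_comm.comm }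
        haveI : IsCyclic B := ⟨g, hg⟩
        classical
        haveI := Fintype.ofFinite B
        by_contra hne'
        have h3 := IsCyclic.card_pow_eq_one_le (α := B) two_pos
        have hmem : ∀ y : P, y ∈ ({1, c, z} : Finset P) → y ∈ B ∧ y ^ 2 = 1 := by
          intro y hy
          simp only [Finset.mem_insert, Finset.mem_singleton] at hy
          rcases hy with rfl | rfl | rfl
          · exact ⟨one_mem _, one_pow _⟩
          · exact ⟨Subgroup.subset_closure (Or.inl rfl), hc⟩
          · exact ⟨Subgroup.subset_closure (Or.inr rfl), by rw [sq]; exact hz2⟩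
        have h4 : (Finset.subtype (· ∈ B) ({1, c, z} : Finset P)) ⊆
            (Finset.univ.filter fun y : B => y ^ 2 = 1) := by
          intro y hy
          rw [Finset.mem_subtype] at hy
          exact Finset.mem_filter.2 ⟨Finset.mem_univ _, Subtype.ext (hmem _ hy).2⟩
        have h5 := (Finset.card_le_card h4).trans h3
        rw [Finset.card_subtype, Finset.filter_true_of_mem fun y hy => (hmem y hy).1] at h5
        rw [Finset.card_insert_of_notMem (by simp [Ne.symm hc1, Ne.symm hz1]),
          Finset.card_insert_of_notMem (by simpa using hne'), Finset.card_singleton] at h5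
        omega
      rw [hkey a ha ha1, hkey b hb hb1]
    rcases CfsgLib.TwoGroupsQ.isCyclic_or_quaternion hP hu with h | ⟨-, m, -, h⟩
    · exact absurd ((h.isMulCommutative (α := P)).is_comm.comm i j) hij
    · exact Or.inr (Or.inl ⟨_, h⟩)

end CfsgLib.FusionMetacyclic
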