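import Cfsg.Agent.FusionMetacyclic.Extension
import Cfsg.Agent.FusionClosed.Normality
import Cfsg.Agent.Fusion.NormalSubgroup
import Cfsg.Agent.OddOrder.BG4.MetacyclicAction

/-!
# Strongly closed metacyclic `2`-subgroups
-/

set_option autoImplicit false
set_option linter.style.haveILetI false

namespace CfsgLib.FusionMetacyclic

open Cfsg Cfsg.FusionSystem CfsgLib.Fusion

/-- A `2`-group with an automorphism of odd order and Frattini quotient of order at most four has
Frattini quotient of order four. -/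
theorem index_frattini_eq_four {Q : Type*} [Group Q] [Finite Q] (hQ : IsPGroup 2 Q)
    (hidx : (frattini Q).index ≤ 4) {α : MulAut Q} (hodd : Odd (orderOf α)) (hne : α ≠ 1) :
    (frattini Q).index = 4 := by
  obtain ⟨r, hr⟩ := hQ.index (frattini Q)
  rw [hr] at hidx ⊢
  have hr2 : r ≤ 2 := (Nat.pow_le_pow_iff_right one_lt_two).1 hidx
  by_contra h4
  refine hne (eq_one_of_trivial_frattini hQ hodd fun x => ?_)
  interval_cases r
  · rw [pow_zero, Subgroup.index_eq_one] at hr
    exact hr ▸ Subgroup.mem_top _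
  · rw [pow_one] at hr
    rw [Subgroup.mul_mem_iff_of_index_two hr, inv_mem_iff]
    exact ⟨fun h => by simpa using apply_mem_frattini α⁻¹ h, fun h => apply_mem_frattini α h⟩
  · exact absurd rfl h4

theorem frattiniStab_normal {Q : Type*} [Group Q] [(frattini Q).Normal] :
    (frattiniStab Q).Normal :=
  ⟨fun α hα β x => by
    have h := apply_mem_frattini β (hα (β⁻¹ x))
    simpa using h⟩

theorem map_frattini_mem {A B : Type*} [Group A] [Group B] (e : A ≃* B) {a : A}
    (ha : e a ∈ frattini B) : a ∈ frattini A := by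
  have h : frattini A = (frattini B).comap e.toMonoidHom := by
    refine le_antisymm ?_ ?_
    · exact frattini_le_comap_frattini_of_surjective e.surjective
    · intro x hx
      have h1 := frattini_le_comap_frattini_of_surjective (φ := e.symm.toMonoidHom) e.symm.surjective
        (show e x ∈ frattini B from hx)
      simpa using h1
  rw [h]; exact ha

variable {Ω : Type*} [Group Ω] {S : Subgroup Ω} {F : FusionSystem S} {P : Subgroup Ω}

theorem le_essential [Finite S] (hS : IsPGroup 2 S) (hP : F.StronglyClosed P)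
    (hm : Cfsg.IsMetacyclic ↥P) (hna : ¬ IsMulCommutative ↥P)
    (hd : ¬ ∃ m : ℕ, Nonempty (↥P ≃* DihedralGroup m))
    (hq : ¬ ∃ m : ℕ, Nonempty (↥P ≃* QuaternionGroup m)) (hsd : ¬ Cfsg.IsQuasiDihedral ↥P)
    {R : Subgroup Ω} (hc : F.IsCentric R) (hrad : F.IsRadical 2 R) : P ≤ R := by
  classical
  haveI : Fact (Nat.Prime 2) := ⟨Nat.prime_two⟩
  by_contra hle
  haveI := finite_of_le hc.1
  haveI := finite_of_le hP.1
  have hPp : IsPGroup 2 P := hS.to_le hP.1
  have hRp : IsPGroup 2 R := hS.to_le hc.1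
  -- an element of `N_P(R)` outside `R` with square in `R`
  obtain ⟨x, hxP, hxN, hxR, hx2⟩ :
      ∃ x ∈ P, x ∈ normalizerIn S R ∧ x ∉ R ∧ x ^ 2 ∈ R := by
    obtain ⟨x, hxP, hxN, hxR⟩ :=
      CfsgLib.FusionClosed.exists_mem_normalizer_not_mem_of_not_le hS hP hc.1 hle
    obtain ⟨k, hk⟩ := hS ⟨x, hP.1 hxP⟩
    have hk' : x ^ (2 ^ k) = 1 := congrArg Subtype.val hk
    have hex : ∃ j, x ^ (2 ^ j) ∈ R := ⟨k, hk' ▸ one_mem _⟩
    rcases hf : Nat.find hex with _ | j
    · have h := Nat.find_spec hex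
      rw [hf, pow_zero, pow_one] at h
      exact absurd h hxR
    · refine ⟨x ^ (2 ^ j), pow_mem hxP _, pow_mem hxN _, Nat.find_min hex (by omega), ?_⟩
      rw [← pow_mul, ← pow_succ, ← hf]
      exact Nat.find_spec hex
  set Qr : Subgroup R := P.subgroupOf R with hQr
  have hinv : ∀ α ∈ F.autGroup R, ∀ y ∈ Qr, α y ∈ Qr := fun α hα y hy =>
    (CfsgLib.FusionClosed.aut_mem_stronglyClosed_iff hP hc.1 hα).2 hy
  haveI hQrn : Qr.Normal := ⟨fun y hy r =>
    CfsgLib.FusionClosed.conj_mem_stronglyClosed hP (hc.1 r.2) hy⟩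
  let ρ : F.autGroup R →* MulAut Qr :=
    { toFun := fun α =>
        { toFun := fun y => ⟨(α : MulAut R) y, hinv _ α.2 y y.2⟩
          invFun := fun y => ⟨(α : MulAut R)⁻¹ y, hinv _ (inv_mem α.2) y y.2⟩
          left_inv := fun y => Subtype.ext (by simp)
          right_inv := fun y => Subtype.ext (by simp)
          map_mul' := fun y y' => Subtype.ext (map_mul _ _ _) }
      map_one' := rfl
      map_mul' := fun _ _ => rfl }
  let T0 : Subgroup (F.autGroup R) :=
    { carrier := {α | ∀ y : R, (α : MulAut R) y * y⁻¹ ∈ Qr}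
      one_mem' := fun y => by simp
      mul_mem' := fun {a b} ha hb y => by
        have h := mul_mem (ha ((b : MulAut R) y)) (hb y)
        simpa [mul_assoc] using h
      inv_mem' := fun {a} ha y => by
        have h := inv_mem (ha ((a : MulAut R)⁻¹ y))
        simpa using h }
  have hT0n : T0.Normal := ⟨fun a ha b y => by
    have h := hinv _ b.2 _ (ha ((b : MulAut R)⁻¹ y))
    simpa using h⟩
  have hfix : ∀ g ∈ T0, (orderOf g).Coprime 2 → ρ g = 1 → g = 1 := by
    intro g hg hco hρ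
    let c : ℕ → Subgroup R := fun i => if i = 0 then ⊥ else if i = 1 then Qr else ⊤
    have hstab : CfsgLib.FusionClosed.StabSeries c 2 (g : MulAut R) := by
      intro i hi y hy
      rcases i with _ | _ | i
      · simp [c] at hy ⊢
        rw [mul_inv_eq_one]
        exact congrArg Subtype.val (DFunLike.congr_fun hρ ⟨y, hy⟩)
      · exact hg y
      · omega
    apply Subtype.ext
    ext y
    exact congrArg Subtype.val (CfsgLib.FusionClosed.fix_of_stab hRp rfl hstab
      (by rwa [Subgroup.orderOf_coe]) 2 le_rfl y (Subgroup.mem_top y))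
  have hQrp : IsPGroup 2 Qr := hRp.to_subgroup Qr
  -- elements of `N_S(R)` in `T0`
  have hcx : ∀ w ∈ P, ∀ hw : w ∈ normalizerIn S R, ∀ α : F.autGroup R,
      (∀ y : R, ((α : MulAut R) y : Ω) = w * y * w⁻¹) → α ∈ T0 := by
    intro w hw hwN α hα y
    show ((α : MulAut R) y * y⁻¹ : R).1 ∈ P
    rw [Subgroup.coe_mul, Subgroup.coe_inv, hα, mul_assoc w, mul_assoc w]
    refine mul_mem hw ?_
    exact CfsgLib.FusionClosed.conj_mem_stronglyClosed hP (hc.1 y.2) (inv_mem hw)
  have hex : ∀ w ∈ P, ∀ hw : w ∈ normalizerIn S R, ∃ α : F.autGroup R,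
      α ∈ T0 ∧ ∀ y : R, ((α : MulAut R) y : Ω) = w * y * w⁻¹ := by
    intro w hwP hw
    have hα : R.normalizerMonoidHom ⟨w, hw.2⟩ ∈ F.autGroup R :=
      autInducedBy_le_autGroup hc.1 (mem_autInducedBy_iff.2 ⟨w, hw.1, hw.2, fun _ => rfl⟩)
    exact ⟨⟨_, hα⟩, hcx w hwP hw _ fun _ => rfl, fun _ => rfl⟩
  let K1 : Subgroup (F.autGroup R) := T0 ⊓ (frattiniStab Qr).comap ρ
  have hK1n : K1.Normal := by
    haveI := hT0n
    haveI := frattiniStab_normal (Q := Qr)
    exact inferInstance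
  have hK1p : IsPGroup 2 K1 := CfsgLib.FusionClosed.isPGroup_of_coprime_trivial fun g hg hco => by
    refine hfix g (Subgroup.mem_inf.1 hg).1 hco (eq_one_of_trivial_frattini hQrp ?_
      (Subgroup.mem_inf.1 hg).2)
    exact Odd.of_dvd_nat (Nat.coprime_two_right.1 hco) (orderOf_map_dvd ρ g)
  obtain ⟨αx, hαx, hαxv⟩ := hex x hxP hxN
  have hxmove : ρ αx ∉ frattiniStab Qr := fun h =>
    hxR (CfsgLib.FusionClosed.mem_of_normal_pSubgroup hc hrad hK1n hK1p hxN
      (Subgroup.mem_inf.2 ⟨hαx, h⟩) hαxv)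
  obtain ⟨g, hg, hgodd, hgne⟩ : ∃ g ∈ T0, Odd (orderOf g) ∧ ρ g ≠ 1 := by
    by_contra h
    push Not at h
    have hT0p : IsPGroup 2 T0 := CfsgLib.FusionClosed.isPGroup_of_coprime_trivial fun g hg hco =>
      hfix g hg hco (h g hg (Nat.coprime_two_right.1 hco))
    exact hxR (CfsgLib.FusionClosed.mem_of_normal_pSubgroup hc hrad hT0n hT0p hxN hαx hαxv)
  -- transport into `P`
  let Qp : Subgroup P := R.subgroupOf P
  let xp : P := ⟨x, hxP⟩
  have hxQp : xp ∈ Subgroup.normalizer (Qp : Set P) := by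
    rw [Subgroup.mem_normalizer_iff]
    intro q
    exact Subgroup.mem_normalizer_iff.1 hxN.2 (q : Ω)
  let T : Subgroup P := Qp ⊔ Subgroup.zpowers xp
  let Qt : Subgroup T := Qp.subgroupOf T
  have hQT : Qp ≤ T := le_sup_left
  have hTn : T ≤ Subgroup.normalizer (Qp : Set P) :=
    sup_le Subgroup.le_normalizer (Subgroup.zpowers_le.2 hxQp)
  haveI : Qt.Normal := ⟨fun q hq t => (Subgroup.mem_normalizer_iff.1 (hTn t.2) _).1 hq⟩
  let e : Qr ≃* Qt :=
    { toFun := fun y => ⟨⟨⟨((y : R) : Ω), y.2⟩, hQT (y : R).2⟩, (y : R).2⟩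
      invFun := fun y => ⟨⟨((y : T) : P), y.2⟩, ((y : T) : P).2⟩
      left_inv := fun y => rfl
      right_inv := fun y => rfl
      map_mul' := fun y y' => rfl }
  let β : MulAut Qt := MulAut.congr e (ρ g)
  have hβodd : Odd (orderOf β) := by
    rw [show β = MulAut.congr e (ρ g) from rfl, MulEquiv.orderOf_eq]
    exact Odd.of_dvd_nat hgodd (orderOf_map_dvd ρ g)
  have hβne : β ≠ 1 := fun h => hgne ((MulAut.congr e).injective (h.trans (map_one _).symm))
  have hTp : IsPGroup 2 T := hPp.to_subgroup T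
  have hQtp : IsPGroup 2 Qt := hTp.to_subgroup Qt
  have hTm : Cfsg.IsMetacyclic T := CfsgLib.OddOrder.BG4.isMetacyclic_subgroup T hm
  have hQtm : Cfsg.IsMetacyclic Qt := CfsgLib.OddOrder.BG4.isMetacyclic_subgroup Qt hTm
  -- `C_P(Q) ≤ Q`
  have hcent : ∀ w : P, (∀ q ∈ Qp, w * q = q * w) → w ∈ Qp := by
    let C : Subgroup Ω := P ⊓ Subgroup.centralizer ((P ⊓ R : Subgroup Ω) : Set Ω)
    suffices hCR : C ≤ R by
      intro w hw
      refine hCR ⟨w.2, Subgroup.mem_centralizer_iff.2 fun q hq => ?_⟩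
      obtain ⟨hq1, hq2⟩ := Subgroup.mem_inf.1 hq
      exact (congrArg Subtype.val (hw ⟨q, hq1⟩ hq2)).symm
    by_contra hCR
    have hRC : R ≤ Subgroup.normalizer (C : Set Ω) := by
      intro r hr
      have hPn := stronglyClosed_le_normalizer hP (hc.1 hr)
      have hPR : r ∈ Subgroup.normalizer ((P ⊓ R : Subgroup Ω) : Set Ω) := by
        rw [Subgroup.mem_normalizer_iff]
        intro q
        simp only [Subgroup.mem_inf]
        exact and_congr (Subgroup.mem_normalizer_iff.1 hPn q)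
          (Subgroup.mem_normalizer_iff.1 (Subgroup.le_normalizer hr) q)
      rw [Subgroup.mem_normalizer_iff]
      intro q
      simp only [C, Subgroup.mem_inf]
      refine and_congr (Subgroup.mem_normalizer_iff.1 hPn q) ?_
      have hCn : r ∈ Subgroup.normalizer
          (Subgroup.centralizer ((P ⊓ R : Subgroup Ω) : Set Ω) : Set Ω) := by
        rw [Subgroup.mem_normalizer_iff]
        intro u
        simp only [Subgroup.mem_centralizer_iff, SetLike.mem_coe]
        constructor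
        · intro h v hv
          have h1 := h _ ((Subgroup.mem_normalizer_iff''.1 hPR v).1 hv)
          calc v * (r * u * r⁻¹) = r * (r⁻¹ * v * r * u) * r⁻¹ := by simp [mul_assoc]
            _ = r * (u * (r⁻¹ * v * r)) * r⁻¹ := by rw [h1]
            _ = r * u * r⁻¹ * v := by simp [mul_assoc]
        · intro h v hv
          have h1 := h _ ((Subgroup.mem_normalizer_iff.1 hPR v).1 hv)
          have h2 : r * v * r⁻¹ * (r * u * r⁻¹) = r * (v * u) * r⁻¹ := by simp [mul_assoc]
          have h3 : r * u * r⁻¹ * (r * v * r⁻¹) = r * (u * v) * r⁻¹ := by simp [mul_assoc]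
          rw [h2, h3] at h1
          exact mul_left_cancel (mul_right_cancel h1)
      exact Subgroup.mem_normalizer_iff.1 hCn q
    have hMS : R ⊔ C ≤ S := sup_le hc.1 (inf_le_left.trans hP.1)
    haveI := finite_of_le hMS
    have hlt : R < R ⊔ C := lt_of_le_of_ne le_sup_left fun e => hCR (e ▸ le_sup_right)
    obtain ⟨m, hm', hmR⟩ := SetLike.exists_of_lt (lt_normalizerIn (hS.to_le hMS) hlt)
    have hmM : m ∈ ((R ⊔ C : Subgroup Ω) : Set Ω) := hm'.1
    rw [Subgroup.coe_mul_of_left_le_normalizer_right R C hRC] at hmM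
    obtain ⟨u, hu, c, hcC, rfl⟩ := hmM
    have hcN : c ∈ normalizerIn S R := ⟨hP.1 hcC.1, by
      simpa using mul_mem (inv_mem (Subgroup.le_normalizer hu)) hm'.2⟩
    obtain ⟨αc, hαc, hαcv⟩ := hex c hcC.1 hcN
    refine hmR (mul_mem hu (CfsgLib.FusionClosed.mem_of_normal_pSubgroup hc hrad hK1n hK1p hcN
      (Subgroup.mem_inf.2 ⟨hαc, fun y => ?_⟩) hαcv))
    have : ρ αc y = y := Subtype.ext (Subtype.ext (by
      show (((αc : MulAut R) (y : R) : R) : Ω) = ((y : R) : Ω)
      have h : c * ((y : R) : Ω) = ((y : R) : Ω) * c :=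
        (Subgroup.mem_centralizer_iff.1 hcC.2 ((y : R) : Ω) ⟨y.2, (y : R).2⟩).symm
      rw [hαcv, h, mul_inv_cancel_right]))
    rw [this, mul_inv_cancel]
    exact one_mem _
  have hxQ : xp ∉ Qp := hxR
  have hQtop : Qp ≠ ⊤ := fun h => hxQ (h ▸ Subgroup.mem_top _)
  let eQ : Qt ≃* Qp := Subgroup.subgroupOfEquivOfLe hQT
  by_cases hQc : IsMulCommutative Qt
  · -- `Q` is a four-group
    have hidx := index_frattini_le hQtp hQtm
    have hexp : ∀ q : Qt, q ^ 2 = 1 := by
      refine sq_eq_one_of_extension hTp hTm Qt hQc.is_comm.comm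
        (x := ⟨xp, Subgroup.mem_sup_right (Subgroup.mem_zpowers xp)⟩) hx2 ?_ hQtm hβodd hβne ?_
      · intro t
        have ht : (t : P) ∈ ((Qp ⊔ Subgroup.zpowers xp : Subgroup P) : Set P) := t.2
        rw [Subgroup.coe_mul_of_right_le_normalizer_left Qp (Subgroup.zpowers xp)
          (Subgroup.zpowers_le.2 hxQp)] at ht
        obtain ⟨q, hq, _, ⟨i, rfl⟩, ht⟩ := ht
        change q * xp ^ i = (t : P) at ht
        have hx2' : xp ^ 2 ∈ Qp := hx2
        rcases Int.emod_two_eq_zero_or_one i with h | h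
        · left
          show (t : P) ∈ Qp
          rw [← ht, ← Int.mul_ediv_add_emod i 2, h, add_zero, zpow_mul, zpow_ofNat]
          exact mul_mem hq (zpow_mem hx2' _)
        · right
          show (t : P) * xp⁻¹ ∈ Qp
          rw [← ht, ← Int.mul_ediv_add_emod i 2, h, zpow_add, zpow_one, zpow_mul, zpow_ofNat,
            mul_assoc, mul_inv_cancel_right]
          exact mul_mem hq (zpow_mem hx2' _)
      · by_contra hcon
        push Not at hcon
        refine hxmove fun y => ?_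
        obtain ⟨h, hh⟩ := hcon (e y)
        refine map_frattini_mem e ?_
        refine (Eq.subst ?_ hh : e (ρ αx y * y⁻¹) ∈ frattini Qt)
        exact Subtype.ext (Subtype.ext (Subtype.ext (by
          show x * ((y : R) : Ω) * x⁻¹ * ((y : R) : Ω)⁻¹ =
            (((αx : MulAut R) (y : R) : R) : Ω) * ((y : R) : Ω)⁻¹
          rw [hαxv])))
    have hΦ : frattini ↥Qt = ⊥ := le_bot_iff.1 (CfsgLib.Solvable.frattini_le_of_elementary (p := 2)
      (by
        rw [commutator_def, Subgroup.commutator_le]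
        intro a _ b _
        rw [Subgroup.mem_bot, commutatorElement_eq_one_iff_mul_comm]
        exact hQc.is_comm.comm a b) fun q => Subgroup.mem_bot.2 (hexp q))
    have h4 := index_frattini_eq_four hQtp hidx hβodd hβne
    rw [hΦ, Subgroup.index_bot, Nat.card_congr eQ.toEquiv] at h4
    rcases of_klein_self_centralizing hPp Qp h4 (fun q hq => by
        have h := congrArg eQ (hexp (eQ.symm ⟨q, hq⟩))
        rw [map_pow, map_one, MulEquiv.apply_symm_apply] at h
        exact congrArg Subtype.val h) hcent hQtop with h | h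
    · exact hd h
    · exact hsd h
  · obtain ⟨f⟩ := quaternion_of_not_comm hQtp hQtm hβodd hβne hQc
    rcases of_quaternion_self_centralizing hPp Qp (eQ.symm.trans f) hcent with h | h | h
    · exact hd h
    · exact hq h
    · exact hsd h

theorem isNormal_metacyclic_two [Finite S] (hS : IsPGroup 2 S) (hF : F.IsSaturated 2)
    (hP : F.StronglyClosed P) (hm : Cfsg.IsMetacyclic ↥P)
    (hd : ¬ ∃ m : ℕ, Nonempty (↥P ≃* DihedralGroup m))
    (hq : ¬ ∃ m : ℕ, Nonempty (↥P ≃* QuaternionGroup m)) (hsd : ¬ Cfsg.IsQuasiDihedral ↥P) :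
    F.IsNormal P := by
  haveI : Fact (Nat.Prime 2) := ⟨Nat.prime_two⟩
  by_cases hab : IsMulCommutative ↥P
  · exact isNormal_of_abelian hS hF hP hab
  · exact CfsgLib.FusionClosed.isNormal_of_le_essential hS hF hP fun R hR =>
      le_essential hS hP hm hab hd hq hsd hR.1 (isRadical_of_essential hS hR)

/-- Automorphism groups of other metacyclic `2`-groups are `2`-groups. -/
theorem isPGroup_mulAut {Q : Type*} [Group Q] [Finite Q] (hQ : IsPGroup 2 Q)
    (hm : Cfsg.IsMetacyclic Q)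
    (hh : ¬ ∃ n k : ℕ, Nonempty (Q ≃* Multiplicative (Fin k → ZMod (2 ^ n))))
    (hq : ¬ ∃ m : ℕ, Nonempty (Q ≃* QuaternionGroup m)) : IsPGroup 2 (MulAut Q) := by
  haveI : Fact (Nat.Prime 2) := ⟨Nat.prime_two⟩
  haveI : Finite (MulAut Q) := Finite.of_injective (fun α => (α : Q → Q)) DFunLike.coe_injective
  intro α
  obtain ⟨k, m, hmodd, hkm⟩ := Nat.exists_eq_two_pow_mul_odd (orderOf_pos α).ne'
  refine ⟨k, ?_⟩
  by_contra hne
  have hodd : Odd (orderOf (α ^ (2 ^ k))) := by
    rw [orderOf_pow, hkm, Nat.gcd_eq_right (dvd_mul_right _ _),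
      Nat.mul_div_cancel_left _ (pow_pos two_pos k)]
    exact hmodd
  by_cases hc : IsMulCommutative Q
  · obtain ⟨n, h⟩ := homocyclic_of_comm hQ hm hodd hne hc.is_comm.comm
    exact hh ⟨n, 2, h⟩
  · exact hq ⟨2, quaternion_of_not_comm hQ hm hodd hne hc⟩

theorem hom_eq_inner [Finite S] (hS : IsPGroup 2 S) (hF : F.IsSaturated 2)
    (hm : Cfsg.IsMetacyclic ↥S)
    (hh : ¬ ∃ n k : ℕ, Nonempty (↥S ≃* Multiplicative (Fin k → ZMod (2 ^ n))))
    (hd : ¬ ∃ m : ℕ, Nonempty (↥S ≃* DihedralGroup m))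
    (hq : ¬ ∃ m : ℕ, Nonempty (↥S ≃* QuaternionGroup m)) (hsd : ¬ Cfsg.IsQuasiDihedral ↥S)
    (P : Subgroup Ω) : F.Hom P = (Cfsg.innerFusionSystem S).Hom P := by
  haveI : Fact (Nat.Prime 2) := ⟨Nat.prime_two⟩
  ext φ
  constructor
  · intro hφ
    have hSsc : F.StronglyClosed S := ⟨le_rfl, fun R _ ψ hψ x => apply_mem hψ x⟩
    have hn := isNormal_metacyclic_two hS hF hSsc hm hd hq hsd
    obtain ⟨ψ, hψ, hψP, hψS⟩ := hn.2 P φ hφ
    have hPS := le_left hφ
    have hψmem : restrictHom ψ le_sup_right ∈ F.Hom S := restrict_mem hψ _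
    obtain ⟨α, hα, hαψ⟩ := exists_iso hψmem (Q := S) (by rw [range_restrictHom]; exact hψS)
    have hpg : IsPGroup 2 (F.autGroup S) :=
      (isPGroup_mulAut (hS) hm hh hq).to_subgroup _
    have haut := eq_autInducedBy_of_le (automized_receptive hS hF isFullyNormalized_self).1
      le_rfl hpg (autInducedBy_le_autGroup le_rfl)
    obtain ⟨g, hg, -, hgα⟩ := mem_autInducedBy_iff.1 (haut ▸ hα.mem_autGroup)
    refine ⟨hPS, g, hg, fun x => ?_⟩
    rw [← hψP x]
    have h := hgα ⟨x, hPS x.2⟩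
    rw [hαψ] at h
    exact h
  · rintro ⟨hP, g, hg, h⟩
    exact mem_congr (F.conj_mem hP hg) h

end CfsgLib.FusionMetacyclic
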